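import Cfsg.Agent.TitsK.KTwo
import Cfsg.Agent.TitsK.Inst
import Cfsg.Agent.TitsK.SheetT
import Cfsg.Agent.Omega.TwoF.Rk

-- merged: Cfsg.Agent.TitsK.RankFive
section

/-!
# The 2-rank of `²F₄(2)` is at most 5 (helper369)

`UT` has 143 involutions, only 23 of them commute with more than 46 involutions.  So an elementary abelian subgroup of
`UT` has order at most `2 ^ 5` (`card_elem_five`), and the 2-rank of the automorphism group of the Tits group is at
most 5 (`rk_five`).
-/

set_option autoImplicit false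
set_option Elab.async false

namespace Cfsg.Agent.TitsK

open Cfsg.Lie Cfsg.Agent.ChevalleyStructure.TwF4.Tables
open Cfsg.Agent.FourTwo.Base hiding bar bar_lt
open Cfsg.Agent.FourTwo.BN Cfsg.Agent.FourTwo.Comm Cfsg.Agent.FourTwo.Classes
open Cfsg.Agent.FourTwo.UCode (mulU invU conjU lets colW colF force force_eq mem_lets wel_lets wel_mem)

/-- the codes of the elements of square 1 -/
def LI : List ℕ := [0, 80, 513, 8448, 8528, 12165, 141093, 142241, 266240, 266753, 540672, 541185, 549120, 681765, 806912,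
  807425, 981488, 1546480, 1867653, 1997729, 2129920, 2130000, 2130433, 2138368, 2138448, 2272161, 2396160,
  2396673, 2670592, 2671105, 2679040, 2682757, 2936832, 2937345, 3045872, 3456901, 3585829, 3610864, 4126501,
  4127649, 4259840, 4259920, 4268288, 4268368, 4526080, 4800512, 4808960, 4812677, 4942753, 5066752, 5241328,
  5586821, 5675248, 5715749, 5716897, 6256421, 6389760, 6389840, 6398208, 6398288, 6401925, 6530853, 6656000,
  6930432, 6938880, 7071525, 7072673, 7196672, 7305712, 7739632, 7846817, 8257413, 8886512, 9207685, 9337761,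
  9437184, 9437264, 9437697, 9445632, 9445712, 9449349, 9578277, 9579425, 9703424, 9703937, 9977856, 9978369,
  9986304, 10118949, 10244096, 10244609, 10418672, 10796933, 10925861, 10950896, 11466533, 11467681, 11567104,
  11567184, 11567617, 11575552, 11575632, 11709345, 11833344, 11833857, 12107776, 12108289, 12116224, 12119941,
  12374016, 12374529, 12483056, 12926853, 13015280, 13055781, 13056929, 13596453, 13697024, 13697104, 13705472,
  13705552, 13963264, 14237696, 14246144, 14249861, 14379937, 14503936, 14678512, 15079664, 15186849, 15597445,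
  15826944, 15827024, 15835392, 15835472, 15839109, 15968037, 16093184, 16367616, 16376064, 16508709, 16509857,
  16633856, 16742896]

/-- the codes of the elements commuting with more than 47 elements of square 1 -/
def SM : List ℕ := [0, 540672, 806912, 2129920, 2396160, 2670592, 2936832, 4259840, 4526080, 4800512, 6389760, 6930432, 9437184,
  9977856, 10244096, 11567104, 11833344, 12107776, 12374016, 13697024, 13963264, 14237696, 15826944, 16367616]

/-- the number of members of `L` commuting with `e` -/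
def cc (e : ℕ) (L : List ℕ) : ℕ :=
  List.rec 0 (fun a _ ih => Nat.add ih (cond (Nat.beq (mulU e a) (mulU a e)) 1 0)) L

theorem cc_cons (e a : ℕ) (L : List ℕ) :
    cc e (a :: L) = cc e L + cond (Nat.beq (mulU e a) (mulU a e)) 1 0 := rfl

theorem cc_eq (e : ℕ) (L : List ℕ) : (L.filter fun a => Nat.beq (mulU e a) (mulU a e)).length = cc e L := by
  induction L with
  | nil => rfl
  | cons a L ih =>
    rw [cc_cons, ← ih]
    cases h : Nat.beq (mulU e a) (mulU a e) <;> simp [List.filter, h]

theorem chk_LI : ((LA ++ LB).all fun e => memB e LI) = true := by decide +kernel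

theorem chk_SM : (LI.all fun e => memB e SM || Nat.ble (cc e LI) 63) = true := by decide +kernel

theorem length_SM : SM.length = 24 := rfl

theorem mem_LI {u : LL} (hu : u ∈ UT) (h : u * u = 1) : ∃ e ∈ LI, u = ec e := by
  obtain ⟨e, he, rfl, -, h2⟩ := ST_all chk_invol hu (no_outer_invol hu h)
  have h4 : ec (mulU e e) = ec 0 := by rw [ec_mulU, h, ec_zero]
  have h5 : mulU e e = 0 := ec_inj (mulU_lt he e) (by norm_num) h4
  have h6 : Nat.beq (mulU e e) 0 = true := by rw [h5]; rfl
  rw [h6, cond_true, Bool.or_eq_true, Bool.or_eq_true] at h2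
  have h7 := chk_LI
  rw [List.all_eq_true] at h7
  refine ⟨e, ?_, rfl⟩
  rcases h2 with (h2 | h2) | h2
  · rw [Nat.eq_of_beq_eq_true h2]
    exact memB_spec (by decide +kernel)
  · exact memB_spec (h7 e (List.mem_append_left _ (memB_spec h2)))
  · exact memB_spec (h7 e (List.mem_append_right _ (memB_spec h2)))

theorem LI_lt : ∀ e ∈ LI, e < 2 ^ 24 := by
  have h : (LI.all fun e => Nat.blt e 16777216) = true := by decide +kernel
  rw [List.all_eq_true] at h
  intro e he
  have h1 := h e he
  rw [Nat.blt_eq] at h1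
  exact h1

/-- **the 2-rank of `UT`** -/
theorem card_elem_five_UT {B : Subgroup LL} (hB : B ≤ UT) (hsq : ∀ a ∈ B, a * a = 1) : Nat.card ↥B ≤ 2 ^ 5 := by
  by_contra hc
  rw [not_le] at hc
  have h64 : 2 ^ 6 ≤ Nat.card ↥B := by
    have : Fact (Nat.Prime 2) := ⟨Nat.prime_two⟩
    obtain ⟨n, hn⟩ := IsPGroup.iff_card.1 (isPGroup_of_sq hsq)
    rw [hn] at hc ⊢
    have h1 : 5 < n := (Nat.pow_lt_pow_iff_right (by norm_num)).1 hc
    exact Nat.pow_le_pow_right (by norm_num) h1
  have hcomm : ∀ a ∈ B, ∀ b ∈ B, a * b = b * a := by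
    intro a ha b hb
    have h1 := hsq _ (mul_mem ha hb)
    calc a * b = a * (a * b * (a * b)) * b := by rw [h1, mul_one]
      _ = (a * a) * (b * a) * (b * b) := by group
      _ = b * a := by rw [hsq a ha, hsq b hb, one_mul, mul_one]
  have hSM := chk_SM
  rw [List.all_eq_true] at hSM
  have h1 : Nat.card ↥B ≤ SM.length := by
    refine card_le_of_codes fun b hb => ?_
    obtain ⟨e, he, rfl⟩ := mem_LI (hB hb) (hsq b hb)
    refine ⟨e, ?_, rfl⟩
    have h2 := hSM e he
    rw [Bool.or_eq_true] at h2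
    rcases h2 with h2 | h2
    · exact memB_spec h2
    · exfalso
      have h3 := Nat.le_of_ble_eq_true h2
      have h4 : Nat.card ↥B ≤ (LI.filter fun a => Nat.beq (mulU e a) (mulU a e)).length := by
        refine card_le_of_codes fun c hcB => ?_
        obtain ⟨f, hf, rfl⟩ := mem_LI (hB hcB) (hsq c hcB)
        refine ⟨f, ?_, rfl⟩
        rw [List.mem_filter]
        refine ⟨hf, ?_⟩
        have h5 : ec (mulU e f) = ec (mulU f e) := by rw [ec_mulU, ec_mulU, hcomm _ hb _ hcB]
        rw [ec_inj (mulU_lt (LI_lt e he) f) (mulU_lt (LI_lt f hf) e) h5, Nat.beq_refl]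
      rw [cc_eq] at h4
      omega
  rw [length_SM] at h1
  omega

/-- **the 2-rank of `²F₄(2)`** -/
theorem card_elem_five {B : Subgroup LL} (hB : B ≤ HT) (hsq : ∀ a ∈ B, a * a = 1) : Nat.card ↥B ≤ 2 ^ 5 := by
  obtain ⟨h, -, h2⟩ := KAbs.exists_conj_le odd_UT hB (isPGroup_of_sq hsq)
  exact KAbs.card_le_of_conj (fun B' hB' hsq' => card_elem_five_UT hB' hsq') hsq h2

end Cfsg.Agent.TitsK

end

-- merged: Cfsg.Agent.TitsK.RankRK
section

/-!
# The automorphism group of the Tits group (helper369)

`TData.exists_embed`: `X` finite, `N ⊴ X`, `N ≃* T`, `C_X(N) = 1` ⇒ `X` embeds into `H`.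
`TData.rk`: if every elementary abelian 2-subgroup of `H` has order at most `2 ^ a` then `RK T a`.
`rk_five : RK K 5`, `index_le : |X : N| ≤ 2` for `IsoTits K`.
-/

set_option autoImplicit false
set_option Elab.async false

namespace Cfsg.Agent.TitsK

open Cfsg.Agent.Omega.TwoF

universe u v

namespace TData

variable {G : Type v} [Group G] (D : TData G)

/-- two elements of `H` inducing the same map on `T` are equal -/
theorem eq_of_conj [Finite G] {g h : G} (hg : g ∈ D.H) (hh : h ∈ D.H)
    (H : ∀ t ∈ D.T, g * t * g⁻¹ = h * t * h⁻¹) : g = h := by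
  have h1 : h⁻¹ * g = 1 := by
    refine D.cent_T (D.H.mul_mem (D.H.inv_mem hh) hg) fun t ht => ?_
    have h2 := H t ht
    calc h⁻¹ * g * t = h⁻¹ * (g * t * g⁻¹) * g := by group
      _ = h⁻¹ * (h * t * h⁻¹) * g := by rw [h2]
      _ = t * (h⁻¹ * g) := by group
  calc g = h * (h⁻¹ * g) := by group
    _ = h := by rw [h1, mul_one]

/-- **an almost simple group with socle `T` embeds into `H`** -/
theorem exists_embed [Finite G] {X : Type u} [Group X] (N : Subgroup X) [N.Normal] (he : Nonempty (↥N ≃* ↥D.T))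
    (hc : Subgroup.centralizer (N : Set X) = ⊥) : ∃ Φ : X →* G, Function.Injective Φ ∧ ∀ x, Φ x ∈ D.H := by
  obtain ⟨e⟩ := he
  let F : X → (↥D.T →* G) := fun x =>
    D.T.subtype.comp (e.toMonoidHom.comp ((MulAut.conjNormal x : ↥N ≃* ↥N).toMonoidHom.comp e.symm.toMonoidHom))
  have hF : ∀ x t, F x t = (e (MulAut.conjNormal x (e.symm t)) : G) := fun x t => rfl
  have hInj : ∀ x, D.Inj (F x) := by
    intro x
    refine ⟨?_, fun t => (e (MulAut.conjNormal x (e.symm t))).2⟩
    intro s t hst
    rw [hF, hF] at hst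
    have h1 := e.injective (Subtype.ext hst)
    exact e.symm.injective ((MulAut.conjNormal x : ↥N ≃* ↥N).injective h1)
  choose φ hφH hφ using fun x => D.exists_conj (hInj x)
  have hmul : ∀ x y, φ (x * y) = φ x * φ y := by
    intro x y
    refine D.eq_of_conj (hφH _) (D.H.mul_mem (hφH _) (hφH _)) fun t ht => ?_
    have h1 := hφ (x * y) ⟨t, ht⟩
    have h2 := hφ y ⟨t, ht⟩
    have h3 := hφ x (e (MulAut.conjNormal y (e.symm ⟨t, ht⟩)))
    rw [hF, e.symm_apply_apply] at h3
    rw [hF] at h1 h2
    have h4 : (MulAut.conjNormal (x * y) : ↥N ≃* ↥N) (e.symm ⟨t, ht⟩) =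
        (MulAut.conjNormal x : ↥N ≃* ↥N) ((MulAut.conjNormal y : ↥N ≃* ↥N) (e.symm ⟨t, ht⟩)) := by
      rw [map_mul]
      rfl
    rw [h4, h3, h2] at h1
    dsimp only at h1
    rw [← h1]
    group
  have hone : φ 1 = 1 := by
    have h1 := hmul 1 1
    rw [mul_one] at h1
    exact (mul_eq_left.1 h1.symm)
  have hker : ∀ x, φ x = 1 → x = 1 := by
    intro x hx
    have h1 : x ∈ Subgroup.centralizer (N : Set X) := by
      rw [Subgroup.mem_centralizer_iff]
      intro n hn
      have h2 := hφ x (e ⟨n, hn⟩)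
      rw [hF, e.symm_apply_apply, hx, one_mul, inv_one, mul_one] at h2
      have h3 := e.injective (Subtype.ext h2)
      have h4 := congrArg Subtype.val h3
      rw [MulAut.conjNormal_apply] at h4
      dsimp only at h4
      rw [mul_inv_eq_iff_eq_mul] at h4
      exact h4.symm
    rw [hc] at h1
    exact Subgroup.mem_bot.1 h1
  refine ⟨⟨⟨φ, hone⟩, hmul⟩, ?_, hφH⟩
  rw [injective_iff_map_eq_one]
  exact hker

/-- **the 2-rank of the automorphism group of `T`** -/
theorem rk [Finite G] {a : ℕ}
    (hE : ∀ B : Subgroup G, B ≤ D.H → (∀ b ∈ B, b * b = 1) → Nat.card ↥B ≤ 2 ^ a) : Rk.RK.{u} (↥D.T) a := by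
  intro X _ _ N _ he hc A hA
  obtain ⟨Φ, hinj, hH⟩ := D.exists_embed N he hc
  have h1 : Nat.card ↥(A.map Φ) = Nat.card ↥A :=
    Nat.card_congr (A.equivMapOfInjective Φ hinj).toEquiv.symm
  rw [← h1]
  refine hE _ ?_ ?_
  · rintro _ ⟨x, -, rfl⟩
    exact hH x
  · rintro _ ⟨x, hx, rfl⟩
    rw [← map_mul, hA x hx, map_one]

/-- **an almost simple group with socle `T`: `|X : N| ≤ 2`** -/
theorem index_le [Finite G] {X : Type u} [Group X] [Finite X] (N : Subgroup X) [N.Normal]
    (he : Nonempty (↥N ≃* ↥D.T)) (hc : Subgroup.centralizer (N : Set X) = ⊥) : N.index ≤ 2 := by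
  obtain ⟨Φ, hinj, hH⟩ := D.exists_embed N he hc
  obtain ⟨e⟩ := he
  have h1 : Nat.card X ≤ Nat.card ↥D.H :=
    Nat.card_le_card_of_injective (fun x => (⟨Φ x, hH x⟩ : ↥D.H)) fun x y hxy => hinj (congrArg Subtype.val hxy)
  have h2 : Nat.card ↥D.T * 2 = Nat.card ↥D.H := by
    rw [← D.relIndex_T, ← Nat.card_congr (Subgroup.subgroupOfEquivOfLe D.T_le).toEquiv]
    exact (D.T.subgroupOf D.H).card_mul_index
  have h3 : Nat.card ↥N = Nat.card ↥D.T := Nat.card_congr e.toEquiv
  have h4 := N.card_mul_index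
  rw [← h2, ← h4, h3] at h1
  exact Nat.le_of_mul_le_mul_left h1 Nat.card_pos

end TData

/-- **the 2-rank of the automorphism group of the Tits group is at most 5** -/
theorem rk_five {K : Type v} [Group K] (h : Cfsg.Lie.IsoTits K) : Rk.RK.{u} K 5 := by
  obtain ⟨f⟩ := h
  obtain ⟨e⟩ := exists_equiv
  have h1 : Rk.RK.{u} (↥tdata.T) 5 := tdata.rk fun B hB hsq => card_elem_five hB hsq
  exact h1.of_equiv (f.trans e).symm

/-- **`|X : N| ≤ 2`** -/
theorem index_le {K : Type v} [Group K] (h : Cfsg.Lie.IsoTits K) {X : Type u} [Group X] [Finite X] (N : Subgroup X)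
    [N.Normal] (he : Nonempty (↥N ≃* K)) (hc : Subgroup.centralizer (N : Set X) = ⊥) : N.index ≤ 2 := by
  obtain ⟨f⟩ := h
  obtain ⟨e⟩ := exists_equiv
  exact tdata.index_le N (he.map fun g => (g.trans f).trans e) hc

end Cfsg.Agent.TitsK

end
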