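import Cfsg.Agent.TitsK.KDef
import Cfsg.Agent.TitsK.KChkA
import Cfsg.Agent.TitsK.KChkC
import Cfsg.Agent.TitsK.KAbs

-- merged: Cfsg.Agent.TitsK.KChkB
section

/-!
Check for KTwo: (K2) (helper795).
-/

set_option autoImplicit false
set_option Elab.async false

namespace Cfsg.Agent.TitsK

open Cfsg.Lie Cfsg.Agent.ChevalleyStructure.TwF4.Tables
open Cfsg.Agent.FourTwo.Base hiding bar bar_lt
open Cfsg.Agent.FourTwo.BN Cfsg.Agent.FourTwo.Comm Cfsg.Agent.FourTwo.Classes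
open Cfsg.Agent.FourTwo.UCode (mulU invU conjU lets colW colF force force_eq mem_lets wel_lets wel_mem)

/-- the predicate of `chk_two` -/
def p_chk_two : ℕ → Bool := fun e => cond (Nat.beq (mulU e e) 0) (memB e A32 || memB e LA1 ||
    Sg.any fun c => force (conjU c e) fun f => !Nat.beq (mulU e f) (mulU f e)) true

theorem chk_two_0 : sub4S p_chk_two 0 false = true := by decide +kernel
theorem chk_two_1 : sub4S p_chk_two 74 true = true := by decide +kernel
theorem chk_two_2 : sub4S p_chk_two 513 false = true := by decide +kernel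
theorem chk_two_3 : sub4S p_chk_two 140875 true = true := by decide +kernel

theorem chk_two : allS (fun e => cond (Nat.beq (mulU e e) 0) (memB e A32 || memB e LA1 ||
    Sg.any fun c => force (conjU c e) fun f => !Nat.beq (mulU e f) (mulU f e)) true) = true :=
  allS_of4 (p := p_chk_two) chk_two_0 chk_two_1 chk_two_2 chk_two_3

end Cfsg.Agent.TitsK

end

-- merged: Cfsg.Agent.TitsK.KTwo
section

/-!
# K-facts (K1)–(K4) of the Tits group (helper795)

* `A1T`: the second normal elementary abelian subgroup of order 32 of `UT` (the first one is `AA`);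
* `zee_UT` (K1); `two_normal` (K2); `card_elem` (K3); `norm_ST` (K4); `cent_ST`.
-/

set_option autoImplicit false
set_option Elab.async false

namespace Cfsg.Agent.TitsK

open Cfsg.Lie Cfsg.Agent.ChevalleyStructure.TwF4.Tables
open Cfsg.Agent.FourTwo.Base hiding bar bar_lt
open Cfsg.Agent.FourTwo.BN Cfsg.Agent.FourTwo.Comm Cfsg.Agent.FourTwo.Classes
open Cfsg.Agent.FourTwo.UCode (mulU invU conjU lets colW colF force force_eq mem_lets wel_lets wel_mem)

theorem memB_of_mem {e : ℕ} {L : List ℕ} (h : e ∈ L) : memB e L = true := by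
  induction L with
  | nil => exact absurd h (by simp)
  | cons a L ih =>
    show cond (Nat.beq e a) true (memB e L) = true
    rcases List.mem_cons.1 h with rfl | h1
    · rw [Nat.beq_refl, cond_true]
    · rw [ih h1]
      cases Nat.beq e a <;> rfl

/-- a subset with codes in a list -/
theorem card_le_of_codes {B : Subgroup LL} {L : List ℕ} (h : ∀ b ∈ B, ∃ e ∈ L, b = ec e) :
    Nat.card ↥B ≤ L.length := by
  classical
  have h1 : (B : Set LL) ⊆ (((L.map ec).toFinset : Finset LL) : Set LL) := by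
    intro g hg
    rw [Finset.mem_coe, List.mem_toFinset, List.mem_map]
    obtain ⟨e, he, rfl⟩ := h g hg
    exact ⟨e, he, rfl⟩
  have h2 : Nat.card ↥B = (B : Set LL).ncard := rfl
  rw [h2]
  refine (Set.ncard_le_ncard h1 (Set.toFinite _)).trans ?_
  rw [Set.ncard_coe_finset]
  refine (List.toFinset_card_le _).trans ?_
  rw [List.length_map]

/-! ### the two normal elementary abelian subgroups of order 32 -/

theorem closedA1 : clB LA1 = true := by decide +kernel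

/-- the second normal elementary abelian subgroup of order 32 of `UT` -/
def A1T : Subgroup LL := cs LA1 closedA1

theorem mem_A1T {g : LL} : g ∈ A1T ↔ ∃ e ∈ LA1, g = ec e := Iff.rfl

theorem A32_lt : ∀ e ∈ A32, e < 2 ^ 24 := by decide
theorem LA1_lt : ∀ e ∈ LA1, e < 2 ^ 24 := by decide

theorem card_A1T : Nat.card ↥A1T = 2 ^ 5 := card_cs (by decide) LA1_lt

theorem A1T_ne : A1T ≠ AA := by
  intro h
  have h1 : ec 8448 ∈ AA := by
    rw [← h]
    exact ⟨8448, by decide, rfl⟩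
  obtain ⟨e, he, h2⟩ := mem_AA.1 h1
  have h3 := ec_inj (by norm_num) (A32_lt e he) h2
  rw [← h3] at he
  exact absurd he (by decide)

theorem A1T_gens : ∀ e ∈ [8448, 540672, 2129920, 4259840, 9437184], ec e ∈ UT ⊓ TT := by
  intro e he
  simp only [List.mem_cons, List.not_mem_nil, or_false] at he
  rcases he with rfl | rfl | rfl | rfl | rfl
  · exact ⟨ec8448, t8448⟩
  · exact ⟨ec540672, t540672⟩
  · exact ⟨ec2129920, t2129920⟩
  · exact ⟨ec4259840, t4259840⟩
  · exact ⟨ec9437184, t9437184⟩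

/-- all products of the generators -/
def spanL : List ℕ → List ℕ
  | [] => [0]
  | g :: gs => (spanL gs) ++ (spanL gs).map fun e => mulU e g

theorem spanL_mem {H : Subgroup LL} {gs : List ℕ} (h : ∀ g ∈ gs, ec g ∈ H) : ∀ e ∈ spanL gs, ec e ∈ H := by
  induction gs with
  | nil =>
    intro e he
    rw [spanL, List.mem_singleton] at he
    rw [he, ec_zero]
    exact H.one_mem
  | cons g gs ih =>
    have ih' := ih fun g' hg' => h g' (List.mem_cons_of_mem _ hg')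
    intro e he
    rw [spanL, List.mem_append, List.mem_map] at he
    rcases he with he | ⟨f, hf, rfl⟩
    · exact ih' e he
    · rw [ec_mulU]
      exact H.mul_mem (ih' f hf) (h g List.mem_cons_self)

theorem span_A1 : (LA1.all fun e => memB e (spanL [8448, 540672, 2129920, 4259840, 9437184])) = true := by
  decide +kernel

theorem cs_le {H : Subgroup LL} {L gs : List ℕ} {h : clB L = true} (hs : (L.all fun e => memB e (spanL gs)) = true)
    (hg : ∀ g ∈ gs, ec g ∈ H) : cs L h ≤ H := by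
  rintro _ ⟨e, he, rfl⟩
  rw [List.all_eq_true] at hs
  exact spanL_mem hg e (memB_spec (hs e he))

theorem A1T_le : A1T ≤ UT ⊓ TT := cs_le span_A1 A1T_gens

theorem A1T_le_Q8 : A1T ≤ Q8 := cs_le span_A1 fun g hg =>
  (mem_Q8_iff (A1T_gens g hg).1).2 (by
    simp only [List.mem_cons, List.not_mem_nil, or_false] at hg
    rcases hg with rfl | rfl | rfl | rfl | rfl <;> decide +kernel)

theorem A1T_le_QQ : A1T ≤ QQ := fun _ hg => ⟨A1T_le_Q8 hg, (A1T_le hg).2⟩

theorem UT_conj_A1T {u a : LL} (hu : u ∈ UT) (ha : a ∈ A1T) : u * a * u⁻¹ ∈ A1T := by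
  obtain ⟨e, he, rfl⟩ := mem_A1T.1 ha
  exact UT_conj_list (by decide +kernel) hu e he

theorem sq_A1T {a : LL} (ha : a ∈ A1T) : a * a = 1 := by
  obtain ⟨e, he, rfl⟩ := mem_A1T.1 ha
  have h : (LA1.all fun e => Nat.beq (mulU e e) 0) = true := by decide +kernel
  rw [List.all_eq_true] at h
  rw [← ec_mulU, Nat.eq_of_beq_eq_true (h e he), ec_zero]

/-! ### (K1) -/

/-- **(K1)** an element of `UT` that commutes with `ST` modulo `z` lies in `V4` -/
theorem zee_UT {u : LL} (hu : u ∈ UT)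
    (h : ∀ c ∈ UT ⊓ TT, u * c * (u⁻¹ * c⁻¹) = 1 ∨ u * c * (u⁻¹ * c⁻¹) = z) : u ∈ V4 := by
  obtain ⟨e, he, rfl, -, h2⟩ := UT_all chk_zeeU hu
  rw [Bool.or_eq_true] at h2
  rcases h2 with h2 | h2
  · exact mem_V4.2 ⟨e, memB_spec h2, rfl⟩
  · exfalso
    rw [Bool.not_eq_true', ← Bool.not_eq_true] at h2
    apply h2
    rw [List.all_eq_true]
    intro c hc
    have h3 := h _ ⟨Sg_UT c hc, Sg_TT c hc⟩
    have hlt : commU e c < 2 ^ 24 := mulU_lt (mulU_lt he c) _
    rw [← ec_commU] at h3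
    rw [force_eq, Bool.or_eq_true]
    rcases h3 with h3 | h3
    · left
      rw [← ec_zero] at h3
      rw [ec_inj hlt (by norm_num) h3]
      rfl
    · right
      rw [ec_inj hlt (by norm_num) h3]
      rfl

/-! ### (K2) -/

/-- an element of an elementary abelian subgroup normalised by `ST` -/
theorem mem_of_elem {B : Subgroup LL} (hB : B ≤ UT) (hsq : ∀ a ∈ B, a * a = 1)
    (hn : ∀ u ∈ UT ⊓ TT, ∀ a ∈ B, u * a * u⁻¹ ∈ B) : ∀ a ∈ B, a ∈ AA ∨ a ∈ A1T := by
  intro a ha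
  have haU := hB ha
  have haT := no_outer_invol haU (hsq a ha)
  obtain ⟨e, he, rfl, -, h2⟩ := ST_all chk_two haU haT
  have h4 : ec (mulU e e) = ec 0 := by rw [ec_mulU, hsq _ ha, ec_zero]
  have h5 : mulU e e = 0 := ec_inj (mulU_lt he e) (by norm_num) h4
  have h6 : Nat.beq (mulU e e) 0 = true := by rw [h5]; rfl
  rw [h6, cond_true, Bool.or_eq_true, Bool.or_eq_true] at h2
  rcases h2 with (h2 | h2) | h2
  · exact Or.inl (mem_AA.2 ⟨e, memB_spec h2, rfl⟩)
  · exact Or.inr (mem_A1T.2 ⟨e, memB_spec h2, rfl⟩)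
  · exfalso
    rw [List.any_eq_true] at h2
    obtain ⟨c, hc, h3⟩ := h2
    rw [force_eq, Bool.not_eq_true', ← Bool.not_eq_true] at h3
    apply h3
    have h7 := hn _ ⟨Sg_UT c hc, Sg_TT c hc⟩ _ ha
    rw [← ec_conjU] at h7
    have h8 : ec e * ec (conjU c e) = ec (conjU c e) * ec e := by
      have h9 := hsq _ (B.mul_mem ha h7)
      have i1 : (ec e)⁻¹ = ec e := inv_eq_of_mul_eq_one_left (hsq _ ha)
      have i2 : (ec (conjU c e))⁻¹ = ec (conjU c e) := inv_eq_of_mul_eq_one_left (hsq _ h7)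
      have i3 : (ec e * ec (conjU c e))⁻¹ = ec e * ec (conjU c e) := inv_eq_of_mul_eq_one_left h9
      rw [mul_inv_rev, i1, i2] at i3
      exact i3.symm
    rw [← ec_mulU, ← ec_mulU] at h8
    have hlt : conjU c e < 2 ^ 24 := conjU_lt (Sg_lt c hc) e
    rw [ec_inj (mulU_lt he _) (mulU_lt hlt e) h8]
    exact Nat.beq_refl _

/-- **(K2)** the normal elementary abelian subgroups of order at least 32 -/
theorem two_normal {B : Subgroup LL} (hB : B ≤ UT) (hsq : ∀ a ∈ B, a * a = 1)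
    (hn : ∀ u ∈ UT ⊓ TT, ∀ a ∈ B, u * a * u⁻¹ ∈ B) (hc : 2 ^ 5 ≤ Nat.card ↥B) : B = AA ∨ B = A1T :=
  KAbs.eq_or_eq (mem_of_elem hB hsq hn) card_AA card_A1T hc

/-! ### (K3) -/

theorem length_inv : (0 :: (LA ++ LB)).length ≤ 2 ^ 8 := by decide +kernel

theorem isPGroup_of_sq {B : Subgroup LL} (hsq : ∀ a ∈ B, a * a = 1) : IsPGroup 2 ↥B := by
  intro b
  refine ⟨1, Subtype.ext ?_⟩
  show (b : LL) ^ 2 ^ 1 = 1
  rw [pow_one, pow_two]
  exact hsq b b.2

theorem card_elem_UT {B : Subgroup LL} (hB : B ≤ UT) (hsq : ∀ a ∈ B, a * a = 1) : Nat.card ↥B ≤ 2 ^ 8 := by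
  refine (card_le_of_codes (L := 0 :: (LA ++ LB)) ?_).trans length_inv
  intro a ha
  obtain ⟨e, he, rfl, -, h2⟩ := ST_all chk_invol (hB ha) (no_outer_invol (hB ha) (hsq a ha))
  have h4 : ec (mulU e e) = ec 0 := by rw [ec_mulU, hsq _ ha, ec_zero]
  have h5 : mulU e e = 0 := ec_inj (mulU_lt he e) (by norm_num) h4
  have h6 : Nat.beq (mulU e e) 0 = true := by rw [h5]; rfl
  rw [h6, cond_true, Bool.or_eq_true, Bool.or_eq_true] at h2
  refine ⟨e, ?_, rfl⟩
  rw [List.mem_cons, List.mem_append]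
  rcases h2 with (h2 | h2) | h2
  · exact Or.inl (Nat.eq_of_beq_eq_true h2)
  · exact Or.inr (Or.inl (memB_spec h2))
  · exact Or.inr (Or.inr (memB_spec h2))

/-- **(K3)** elementary abelian 2-subgroups of `HT` -/
theorem card_elem {B : Subgroup LL} (hB : B ≤ HT) (hsq : ∀ a ∈ B, a * a = 1) : Nat.card ↥B ≤ 2 ^ 8 := by
  obtain ⟨h, -, h2⟩ := KAbs.exists_conj_le odd_UT hB (isPGroup_of_sq hsq)
  exact KAbs.card_le_of_conj (fun B' hB' hsq' => card_elem_UT hB' hsq') hsq h2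

/-! ### (K4) -/

theorem W_norm : (W16.all fun w => w == [] || AZ.any fun c => outW w c) = true := by decide +kernel

/-- **(K4)** an element of `HT` that carries `ST` into `UT` lies in `UT` -/
theorem norm_ST {g : LL} (hg : g ∈ HT) (h : ∀ s ∈ UT ⊓ TT, g * s * g⁻¹ ∈ UT) : g ∈ UT := by
  obtain ⟨u, hu, w, hw, v, hv, rfl⟩ := bruhat_HT hg
  have h1 := W_norm
  rw [List.all_eq_true] at h1
  have h2 := h1 w hw
  rw [Bool.or_eq_true, beq_iff_eq] at h2
  rcases h2 with h2 | h2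
  · rw [h2]
    show u * 1 * v ∈ UT
    rw [mul_one]
    exact UT.mul_mem hu hv
  · exfalso
    rw [List.any_eq_true] at h2
    obtain ⟨c, hc, h3⟩ := h2
    apply not_mem_U (lt_of_mem_W16 hw) h3
    have h4 : v⁻¹ * ec c * v⁻¹⁻¹ ∈ UT ⊓ TT :=
      ⟨UT.mul_mem (UT.mul_mem (UT.inv_mem hv) (AZ_mem c hc).1) (UT.inv_mem (UT.inv_mem hv)),
        TT_conj (UT.inv_mem hv).2 (AZ_mem c hc).2⟩
    have h5 := UT.mul_mem (UT.mul_mem (UT.inv_mem hu) (h _ h4)) hu
    have e : u⁻¹ * (u * nw w * v * (v⁻¹ * ec c * v⁻¹⁻¹) * (u * nw w * v)⁻¹) * u = nw w * ec c * (nw w)⁻¹ := by group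
    rw [e] at h5
    exact h5.1

/-- an element of `HT` that centralises `ST` is `1` or `z` -/
theorem cent_ST {g : LL} (hg : g ∈ HT) (h : ∀ s ∈ UT ⊓ TT, g * s = s * g) : g = 1 ∨ g = z := by
  have h1 : g ∈ UT := norm_ST hg fun s hs => by
    rw [h s hs, mul_inv_cancel_right]
    exact hs.1
  exact cent_UT h1 fun c hc => h _ ⟨Sg_UT c hc, Sg_TT c hc⟩

/-! ### `A1T`, `AA ⊓ A1T` (requested by helper583) -/

theorem mem_UT_of_cent {g : LL} (hg : g ∈ HT) (h : g * z = z * g) (h1 : g * z1 = z1 * g) : g ∈ UT :=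
  cent_V_le hg (by rw [h, mul_inv_cancel_right]) (by rw [h1, mul_inv_cancel_right])

/-- `C_HT(A1T) = A1T` -/
theorem cent_A1T {g : LL} (hg : g ∈ HT) (h : ∀ a ∈ A1T, g * a = a * g) : g ∈ A1T := by
  have hu : g ∈ UT := mem_UT_of_cent hg (h z ⟨9437184, by decide, rfl⟩) (h z1 ⟨4259840, by decide, rfl⟩)
  obtain ⟨e, he, rfl, -, h2⟩ := UT_all chk_cent_A1 hu
  rw [Bool.or_eq_true] at h2
  rcases h2 with h2 | h2
  · exact mem_A1T.2 ⟨e, memB_spec h2, rfl⟩
  · exfalso
    rw [Bool.not_eq_true', ← Bool.not_eq_true] at h2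
    apply h2
    rw [List.all_eq_true]
    intro c hc
    have h4 : ∀ c ∈ [8448, 540672, 2129920, 4259840, 9437184], c ∈ LA1 ∧ c < 2 ^ 24 := by decide
    have h3 := h _ (mem_A1T.2 ⟨c, (h4 c hc).1, rfl⟩)
    rw [← ec_mulU, ← ec_mulU] at h3
    rw [ec_inj (mulU_lt he c) (mulU_lt (h4 c hc).2 e) h3]
    exact Nat.beq_refl _

/-- codes of `AA ⊓ A1T` -/
def LA0 : List ℕ := [0, 540672, 2129920, 2670592, 4259840, 4800512, 6389760, 6930432, 9437184, 9977856, 11567104,
  12107776, 13697024, 14237696, 15826944, 16367616]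

theorem closedA0 : clB LA0 = true := by decide +kernel
theorem closedAA1 : clB LAA1 = true := by decide +kernel

/-- `AA ⊓ A1T`, of order 16 -/
def A0T : Subgroup LL := cs LA0 closedA0
/-- `AA A1T`, of order 64 -/
def AA1T : Subgroup LL := cs LAA1 closedAA1

theorem LA0_lt : ∀ e ∈ LA0, e < 2 ^ 24 := by decide
theorem LAA1_lt : ∀ e ∈ LAA1, e < 2 ^ 24 := by decide

theorem card_A0T : Nat.card ↥A0T = 2 ^ 4 := card_cs (by decide) LA0_lt
theorem card_AA1T : Nat.card ↥AA1T = 2 ^ 6 := card_cs (by decide) LAA1_lt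

theorem A0T_eq : A0T = AA ⊓ A1T := by
  ext g
  constructor
  · rintro ⟨e, he, rfl⟩
    have h : ∀ e ∈ LA0, e ∈ A32 ∧ e ∈ LA1 := by decide
    exact ⟨⟨e, (h e he).1, rfl⟩, ⟨e, (h e he).2, rfl⟩⟩
  · rintro ⟨⟨e, he, rfl⟩, ⟨f, hf, h⟩⟩
    have h1 := ec_inj (A32_lt e he) (LA1_lt f hf) h
    have h2 : ∀ e ∈ A32, e ∈ LA1 → e ∈ LA0 := by decide
    exact ⟨e, h2 e he (by rw [h1]; exact hf), rfl⟩

theorem AA_le_AA1T : AA ≤ AA1T := by
  rintro _ ⟨e, he, rfl⟩
  have h : ∀ e ∈ A32, e ∈ LAA1 := by decide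
  exact ⟨e, h e he, rfl⟩

theorem A1T_le_AA1T : A1T ≤ AA1T := by
  rintro _ ⟨e, he, rfl⟩
  have h : ∀ e ∈ LA1, e ∈ LAA1 := by decide
  exact ⟨e, h e he, rfl⟩

/-- the elements of `AA1T` are products -/
theorem mem_AA1T {g : LL} (hg : g ∈ AA1T) : ∃ a ∈ AA, ∃ b ∈ A1T, g = a * b := by
  obtain ⟨e, he, rfl⟩ := hg
  have h : (LAA1.all fun e => memB e A32 || memB (mulU 8448 e) A32) = true := by decide +kernel
  rw [List.all_eq_true] at h
  have h1 := h e he
  rw [Bool.or_eq_true] at h1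
  have hb : ec 8448 ∈ A1T := ⟨8448, by decide, rfl⟩
  rcases h1 with h1 | h1
  · exact ⟨ec e, ⟨e, memB_spec h1, rfl⟩, 1, A1T.one_mem, by rw [mul_one]⟩
  · -- `8448 * e ∈ AA`
    have h2 : ec 8448 * ec e ∈ AA := by
      rw [← ec_mulU]
      exact ⟨_, memB_spec h1, rfl⟩
    have h3 := UT_conj_AA (A1T_le hb).1 h2
    refine ⟨_, h3, ec 8448, hb, ?_⟩
    have i1 := sq_A1T hb
    have e1 : ec 8448 * (ec 8448 * ec e) * (ec 8448)⁻¹ * ec 8448 = (ec 8448 * ec 8448) * ec e := by group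
    rw [e1, i1, one_mul]

theorem g0_spec : ∀ c ∈ g0, c ∈ LA0 ∧ c < 2 ^ 24 := by decide

/-- `C_TT(AA ⊓ A1T) = AA A1T` -/
theorem cent_A0T {g : LL} (hg : g ∈ TT) (h : ∀ a ∈ A0T, g * a = a * g) : g ∈ AA1T := by
  have hu : g ∈ UT := mem_UT_of_cent (TT_le hg) (h z ⟨9437184, by decide, rfl⟩) (h z1 ⟨4259840, by decide, rfl⟩)
  obtain ⟨e, he, rfl, -, h2⟩ := ST_all chk_cent_A0 hu hg
  rw [Bool.or_eq_true] at h2
  rcases h2 with h2 | h2
  · exact ⟨e, memB_spec h2, rfl⟩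
  · exfalso
    rw [Bool.not_eq_true', ← Bool.not_eq_true] at h2
    apply h2
    rw [List.all_eq_true]
    intro c hc
    have h3 := h _ ⟨c, (g0_spec c hc).1, rfl⟩
    rw [← ec_mulU, ← ec_mulU] at h3
    rw [ec_inj (mulU_lt he c) (mulU_lt (g0_spec c hc).2 e) h3]
    exact Nat.beq_refl _

/-- the elements of `ST` that centralise `A1T` modulo `z` -/
theorem cent_A1T_mod {g : LL} (hg : g ∈ UT ⊓ TT) (h : ∀ a ∈ A1T, a * g * (a⁻¹ * g⁻¹) = 1 ∨ a * g * (a⁻¹ * g⁻¹) = z) :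
    g ∈ AA1T := by
  obtain ⟨e, he, rfl, -, h2⟩ := ST_all chk_A1z hg.1 hg.2
  rw [Bool.or_eq_true] at h2
  rcases h2 with h2 | h2
  · exact ⟨e, memB_spec h2, rfl⟩
  · exfalso
    rw [Bool.not_eq_true', ← Bool.not_eq_true] at h2
    apply h2
    rw [List.all_eq_true]
    intro c hc
    have h4 : ∀ c ∈ [8448, 540672, 2129920, 4259840], c ∈ LA1 ∧ c < 2 ^ 24 := by decide
    have h3 := h _ ⟨c, (h4 c hc).1, rfl⟩
    have hlt : commU c e < 2 ^ 24 := mulU_lt (mulU_lt (h4 c hc).2 e) _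
    rw [← ec_commU] at h3
    rw [force_eq, Bool.or_eq_true]
    rcases h3 with h3 | h3
    · left
      rw [← ec_zero] at h3
      rw [ec_inj hlt (by norm_num) h3]
      rfl
    · right
      rw [ec_inj hlt (by norm_num) h3]
      rfl

/-- every involution of `TT` in `UT` is conjugate to `z ∈ AA` or to `d ∈ AA` -/
theorem conj_AA {a : LL} (ha : a ∈ UT ⊓ TT) (h : a * a = 1) : ∃ t ∈ TT, t * a * t⁻¹ ∈ AA := by
  by_cases h1 : a = 1
  · exact ⟨1, TT.one_mem, by rw [h1, mul_one, mul_inv_cancel]; exact AA.one_mem⟩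
  · rcases invol_ST ha.1 ha.2 h h1 with ⟨t, ht, h2⟩ | ⟨t, ht, h2⟩
    · exact ⟨t, ht, by rw [h2]; exact z_mem_AA⟩
    · exact ⟨t, ht, by rw [h2]; exact ⟨2129920, by decide, rfl⟩⟩

end Cfsg.Agent.TitsK

end
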