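import Cfsg.Agent.OddHalf.D7Tits.Defs
import Cfsg.Agent.OddHalf.D7Tits.Front
import Cfsg.Agent.TitsK.SheetT
import Cfsg.Agent.TitsK.KAbs
import Cfsg.Agent.TitsK.KDef
import Cfsg.Agent.TitsK.KTwo
import Cfsg.Agent.TitsK.KChkE
import Cfsg.Agent.TitsK.ParD

-- merged: Cfsg.Agent.OddHalf.D7Tits.PosOf
section

/-!
# ODD D7, `K` = the Tits group: from the front to `Pos0` (helper956)

`Pair D KC KO` : compatibility of the K-facts `KC : KT ↥D.T` (`j = 1`) and `KO : KT ↥D.H` (`j * j = z`).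
`pos0_of` : `Ctx G`, `Std G K`, `Cyc K`, `↥K ≃* ↥D.T` give a position `Pos0`, of type CL (`Y = T`) or OUT (`Y = H`).
-/

set_option autoImplicit false

namespace Cfsg.Agent.OddHalf.D7Tits.PosOf

open Subgroup Cfsg.Agent.OddHalf.D7Tits.Defs Cfsg.Agent.OddHalf.D7Tits.Front
open scoped commutatorElement

universe u v

/-! ### The facts of the front -/

section KH

variable {Y : Type u} [Group Y]

theorem conj_r (K : KT Y) {w : Y} {k : ZMod 5} (m : ℕ) :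
    (((K.x ^ m)⁻¹ * w * K.x ^ m)⁻¹ * K.q (k + m) * ((K.x ^ m)⁻¹ * w * K.x ^ m) = K.q (k + m) ↔
      w⁻¹ * K.q k * w = K.q k) := by
  have hq : ∀ (m : ℕ) (k : ZMod 5), (K.x ^ m)⁻¹ * K.q k * K.x ^ m = K.q (k + m) := by
    intro m
    induction m with
    | zero => intro k; simp
    | succ m ih =>
      intro k
      have e : (K.x ^ (m + 1))⁻¹ * K.q k * K.x ^ (m + 1) = K.x⁻¹ * ((K.x ^ m)⁻¹ * K.q k * K.x ^ m) * K.x := by
        rw [pow_succ]; group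
      rw [e, ih, K.q_x]
      congr 1
      push_cast
      ring
  have e : ((K.x ^ m)⁻¹ * w * K.x ^ m)⁻¹ * K.q (k + m) * ((K.x ^ m)⁻¹ * w * K.x ^ m) =
      (K.x ^ m)⁻¹ * (w⁻¹ * K.q k * w) * K.x ^ m := by
    rw [← hq m k]; group
  rw [e, ← hq m k]
  constructor
  · intro h1
    have h2 : K.x ^ m * ((K.x ^ m)⁻¹ * (w⁻¹ * K.q k * w) * K.x ^ m) * (K.x ^ m)⁻¹ =
        K.x ^ m * ((K.x ^ m)⁻¹ * K.q k * K.x ^ m) * (K.x ^ m)⁻¹ := by rw [h1]
    have e1 : K.x ^ m * ((K.x ^ m)⁻¹ * (w⁻¹ * K.q k * w) * K.x ^ m) * (K.x ^ m)⁻¹ = w⁻¹ * K.q k * w := by group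
    have e2 : K.x ^ m * ((K.x ^ m)⁻¹ * K.q k * K.x ^ m) * (K.x ^ m)⁻¹ = K.q k := by group
    rwa [e1, e2] at h2
  · intro h1
    rw [h1]

theorem z_central (K : KT Y) {u : Y} (hu : u ∈ K.P) : u * K.z = K.z * u := (K.mem_P u).1 hu

theorem q_z (K : KT Y) (k : ZMod 5) : K.q k * K.z = K.z * K.q k :=
  z_central K (K.E_le_P (K.Q_le_E (K.A_le_Q (K.q_A k))))

theorem q_ne (K : KT Y) (k : ZMod 5) : K.q k * K.z ≠ K.q k := fun h => K.z1 (mul_eq_left.1 h)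

/-- the facts of the front -/
theorem kh_of (K : KT Y) (hs : ∀ (P : Sylow 2 Y) (α : MulAut Y), (∀ x ∈ P, α x = x) → ∃ y, α = MulAut.conj y) :
    KH K.U K.z := by
  have : Fact (Nat.Prime 2) := ⟨Nat.prime_two⟩
  have := K.fin
  set S : Sylow 2 Y := K.U_p.toSylow K.U_odd with hS
  have zinv : K.z⁻¹ = K.z := inv_eq_of_mul_eq_one_left K.zz
  refine ⟨K.U_p, ?_, fun u hu => z_central K (K.U_le_P hu), K.zz, K.z1, ?_, ?_⟩
  · intro P hP hle
    exact (S.is_maximal' hP hle).le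
  · -- `z ∈ U''`
    obtain ⟨a, ha, hKS⟩ := K.KS
    set y := (K.x ^ 3)⁻¹ * K.r * K.x ^ 3 with hy
    set w := (K.x ^ 4)⁻¹ * K.r * K.x ^ 4 with hw
    -- action on `q 1`
    have hxP : K.x ∈ K.P := K.E_le_P K.x_E
    have hQc : ∀ m : ℕ, (K.x ^ m)⁻¹ * K.r * K.x ^ m ∈ K.Q := by
      intro m
      have h1 := K.nor_Q (K.x ^ m)⁻¹ (inv_mem (pow_mem hxP m)) K.r K.r_Q
      rwa [inv_inv] at h1
    have hyQ : y ∈ K.Q := hQc 3
    have hwQ : w ∈ K.Q := hQc 4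
    have y1 : y⁻¹ * K.q 1 * y = K.q 1 := by
      have h1 := (conj_r K (w := K.r) (k := 3) 3).2 K.r3
      have e : (3 : ZMod 5) + (3 : ℕ) = 1 := by decide
      rw [e] at h1
      exact h1
    have w1 : w⁻¹ * K.q 1 * w = K.q 1 := by
      have h1 := (conj_r K (w := K.r) (k := 2) 4).2 K.r2
      have e : (2 : ZMod 5) + (4 : ℕ) = 1 := by decide
      rw [e] at h1
      exact h1
    have aA : a⁻¹ * K.q 1 * a = K.q 1 := by
      have h1 : (a * K.q 1) * (a * K.q 1) = 1 := K.sq_A _ (mul_mem ha (K.q_A 1))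
      have h2 := K.sq_A a ha
      have h3 := K.sq_A _ (K.q_A 1)
      have ai : a⁻¹ = a := inv_eq_of_mul_eq_one_left h2
      rw [ai]
      calc a * K.q 1 * a = a * K.q 1 * a * (K.q 1 * K.q 1) := by rw [h3, mul_one]
        _ = (a * K.q 1) * (a * K.q 1) * K.q 1 := by group
        _ = K.q 1 := by rw [h1, one_mul]
    -- `c = [s, r]`
    set c := K.s * K.r * K.s⁻¹ * K.r⁻¹ with hc
    have rz : K.r⁻¹ * K.z * K.r = K.z := by
      rw [mul_assoc, ← z_central K (K.E_le_P (K.Q_le_E K.r_Q))]; group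
    have c1 : c⁻¹ * K.q 1 * c = K.q 1 * K.z := by
      have e : c⁻¹ * K.q 1 * c = K.r * (a⁻¹ * (w⁻¹ * (y⁻¹ * K.q 1 * y) * w) * a) * K.r⁻¹ := by
        rw [hc, hKS]; group
      rw [e, y1, w1, aA]
      have h1 := K.r1
      -- `r q₁ r⁻¹ = q₁ z`
      have h2 : K.r * (K.r⁻¹ * K.q 1 * K.r) * K.r⁻¹ = K.q 1 := by group
      rw [h1] at h2
      have h3 : K.r * K.q 1 * K.r⁻¹ * (K.r * K.z * K.r⁻¹) = K.q 1 := by
        calc K.r * K.q 1 * K.r⁻¹ * (K.r * K.z * K.r⁻¹) = K.r * (K.q 1 * K.z) * K.r⁻¹ := by group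
          _ = K.q 1 := h2
      have h4 : K.r * K.z * K.r⁻¹ = K.z := by
        rw [z_central K (K.E_le_P (K.Q_le_E K.r_Q))]; group
      rw [h4] at h3
      calc K.r * K.q 1 * K.r⁻¹ = K.r * K.q 1 * K.r⁻¹ * (K.z * K.z) := by rw [K.zz, mul_one]
        _ = K.r * K.q 1 * K.r⁻¹ * K.z * K.z := by group
        _ = K.q 1 * K.z := by rw [h3]
    have hcU : c ∈ ⁅K.U, K.U⁆ := commutator_mem_commutator K.s_U (K.Q_le_U K.r_Q)
    have hqU : K.q 1 ∈ ⁅K.U, K.U⁆ := by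
      have h1 : K.q 1 ∈ ⁅K.Q, K.Q⁆ := by rw [K.comm_Q]; exact K.q_A 1
      exact commutator_mono K.Q_le_U K.Q_le_U h1
    have h1 : ⁅c⁻¹, K.q 1⁆ = K.z := by
      rw [commutatorElement_def, inv_inv, c1, q_z, mul_assoc, mul_inv_cancel, mul_one]
    rw [← h1]
    exact commutator_mem_commutator (inv_mem hcU) hqU
  · intro α _ hα
    obtain ⟨y, rfl⟩ := hs S α hα
    have h1 : ∀ u ∈ K.U, y * u = u * y := by
      intro u hu
      have h2 := hα u hu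
      rw [MulAut.conj_apply, mul_inv_eq_iff_eq_mul] at h2
      exact h2
    rcases K.cent_U y h1 with rfl | rfl
    · left
      rw [map_one]
    · right
      intro x
      rw [MulAut.conj_apply]

theorem kh_equiv {Y' : Type v} [Group Y'] (e : Y ≃* Y') {U : Subgroup Y} {z : Y} (h : KH U z) :
    KH (U.map e.toMonoidHom) (e z) where
  pU := h.pU.map _
  maxU := by
    intro P hP hle
    have h1 := h.maxU (P.comap e.toMonoidHom) (hP.comap_of_injective _ e.injective)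
      (fun u hu => hle ⟨u, hu, rfl⟩)
    intro p hp
    have h2 : e.symm p ∈ P.comap e.toMonoidHom := by
      show e (e.symm p) ∈ P
      rw [e.apply_symm_apply]; exact hp
    exact ⟨e.symm p, h1 h2, e.apply_symm_apply p⟩
  zc := by
    rintro _ ⟨u, hu, rfl⟩
    show e u * e z = e z * e u
    rw [← map_mul, h.zc u hu, map_mul]
  zz := by rw [← map_mul, h.zz, map_one]
  z1 := fun h1 => h.z1 (e.injective (by rw [h1, map_one]))
  uu := by
    have h1 : e.toMonoidHom z ∈ (⁅⁅U, U⁆, ⁅U, U⁆⁆).map e.toMonoidHom := ⟨z, h.uu, rfl⟩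
    rw [map_commutator, map_commutator] at h1
    exact h1
  aut := by
    intro α ⟨n, hn⟩ hα
    have hc : ∀ (k : ℕ) (y : Y), ((MulAut.congr e.symm) α ^ k) y = e.symm ((α ^ k) (e y)) := by
      intro k y
      rw [← map_pow]
      rfl
    rcases h.aut (MulAut.congr e.symm α) ⟨n, by
      ext y
      rw [hc, hn]
      simp⟩ (by
      intro u hu
      have h1 := hα (e u) ⟨u, hu, rfl⟩
      show e.symm (α (e u)) = u
      rw [h1, e.symm_apply_apply]) with h1 | h1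
    · left
      ext y
      have h2 := DFunLike.congr_fun h1 (e.symm y)
      have h3 : e.symm (α y) = e.symm y := by
        have e1 : MulAut.congr e.symm α (e.symm y) = e.symm (α y) := by
          show e.symm (α (e (e.symm y))) = _
          rw [e.apply_symm_apply]
        rw [← e1, h2]; rfl
      exact e.symm.injective h3
    · right
      intro y
      have h2 := h1 (e.symm y)
      have e1 : MulAut.congr e.symm α (e.symm y) = e.symm (α y) := by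
        show e.symm (α (e (e.symm y))) = _
        rw [e.apply_symm_apply]
      rw [e1] at h2
      have h3 := congrArg e h2
      rw [e.apply_symm_apply, map_mul, map_mul, map_inv, e.apply_symm_apply] at h3
      exact h3

end KH

/-! ### The pair -/

/-- compatibility of the K-facts of the Tits group and of `²F₄(2)` -/
structure Pair {G' : Type v} [Group G'] (D : TitsK.TData G') (KC : KT ↥D.T) (KO : KT ↥D.H) : Prop where
  jC : KC.j = 1
  jO : KO.j * KO.j = KO.z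
  jT : (KO.j : G') ∉ D.T
  zz : (KO.z : G') = KC.z
  EK : ∀ e ∈ KO.E, (e : G') ∈ D.T
  sK : (KO.s : G') ∈ D.T

theorem two_of {G' : Type v} [Group G'] [Finite G'] (D : TitsK.TData G') : Two ↥D.T := by
  intro α β hα hβ
  have hn : ((MulAut.conj : ↥D.T →* MulAut ↥D.T).range).Normal := by
    refine ⟨?_⟩
    rintro _ ⟨k, rfl⟩ γ
    refine ⟨γ k, ?_⟩
    ext x
    simp [MulAut.conj_apply, MulAut.mul_apply, MulAut.inv_def]
  have hα' : α ∉ (MulAut.conj : ↥D.T →* MulAut ↥D.T).range := by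
    rintro ⟨x, hx⟩
    exact hα ⟨x, hx.symm⟩
  have hβ' : β ∉ (MulAut.conj : ↥D.T →* MulAut ↥D.T).range := by
    rintro ⟨x, hx⟩
    exact hβ ⟨x, hx.symm⟩
  have h1 : (MulAut.conj : ↥D.T →* MulAut ↥D.T).range.index = 2 := by
    rcases (Nat.dvd_prime Nat.prime_two).1 D.index_inn with h1 | h1
    · rw [index_eq_one] at h1
      exact absurd (by rw [h1]; exact mem_top _) hα'
    · exact h1
  have h2 : α * β ∈ (MulAut.conj : ↥D.T →* MulAut ↥D.T).range := by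
    rw [mul_mem_iff_of_index_two h1]
    exact ⟨fun h => absurd h hα', fun h => absurd h hβ'⟩
  obtain ⟨x, hx⟩ := h2
  exact ⟨x, hx.symm⟩

theorem center_eq_bot {G' : Type v} [Group G'] [Finite G'] (D : TitsK.TData G') : center ↥D.T = ⊥ := by
  rw [eq_bot_iff]
  intro x hx
  rw [mem_bot]
  apply Subtype.ext
  exact D.cent_T (D.T_le x.2) fun t ht => by
    have h1 := (mem_center_iff.1 hx ⟨t, ht⟩).symm
    exact congrArg Subtype.val h1

/-! ### The position -/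

section Pos

open Cfsg.Agent.OddHalf.Iface

variable {G' : Type v} [Group G'] [Finite G'] {G : Type u} [Group G] {K : Subgroup G}

/-- `↥(T ∩ H) → ↥T` -/
def sig (D : TitsK.TData G') : ↥(D.T.subgroupOf D.H) →* ↥D.T where
  toFun y := ⟨((y : ↥D.H) : G'), y.2⟩
  map_one' := rfl
  map_mul' _ _ := rfl

omit [Finite G'] in
theorem sig_injective (D : TitsK.TData G') : Function.Injective (sig D) := by
  intro a b h
  apply Subtype.ext
  apply Subtype.ext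
  exact congrArg (fun w : ↥D.T => (w : G')) h

/-- **`Pos0`** -/
theorem pos0_of (C : Ctx G) (S : Std G K) (hcyc : Cyc K) (D : TitsK.TData G') (KC : KT ↥D.T) (KO : KT ↥D.H)
    (H : Pair D KC KO) (e : ↥K ≃* ↥D.T) :
    (∃ (i₀ : ↥(⊤ : Subgroup ↥D.T) →* G) (t : G), Pos0 KC ⊤ i₀ t 1) ∨
      ∃ (i₀ : ↥(D.T.subgroupOf D.H) →* G) (t f : G), Pos0 KO (D.T.subgroupOf D.H) i₀ t f := by
  have := C.fin
  have hKH : KH KC.U KC.z := kh_of KC fun P α hα => D.sylAut P α hα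
  have hKH' := kh_equiv e.symm hKH
  have hcen : center ↥K = ⊥ := by
    rw [eq_bot_iff]
    intro x hx
    have h1 : e x ∈ center ↥D.T := by
      rw [mem_center_iff] at hx ⊢
      intro g
      have h2 := congrArg e (hx (e.symm g))
      rwa [map_mul, map_mul, e.apply_symm_apply] at h2
    rw [center_eq_bot D, mem_bot] at h1
    rw [mem_bot]
    exact e.injective (by rw [h1, map_one])
  obtain ⟨t, T, n, hst, hO⟩ := front_ctx C S hcyc hcen hKH' ((two_of D).of_equiv e.symm)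
  have hperf := Cfsg.Agent.OddHalf.Front.FE.commutator_eq_top C
  have hKt : ∀ x ∈ K, x * t = t * x := hst.toStart0.Kt
  have htK : t ∉ K := fun h1 => hst.t1 (hst.cen t h1 fun y hy => hKt y hy)
  by_cases hcl : ∀ c : G, c * t = t * c → ∃ k ∈ K, c = k ∨ c = t * k
  · -- CL
    left
    let i₀ : ↥(⊤ : Subgroup ↥D.T) →* G := K.subtype.comp (e.symm.toMonoidHom.comp (Subgroup.subtype ⊤))
    have hi₀ : ∀ y : ↥(⊤ : Subgroup ↥D.T), i₀ y = ((e.symm (y : ↥D.T) : ↥K) : G) := fun _ => rfl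
    refine ⟨i₀, t,
      { finG := C.fin
        perf := hperf
        inj := ?_
        tt := hst.tt
        t1 := hst.t1
        ti := ?_
        tY := ?_
        EK := fun _ _ => mem_top _
        sK := mem_top _
        Yj := fun _ => Or.inl (mem_top _)
        fj := Or.inl ⟨H.jC, rfl⟩
        ft := by rw [one_mul, mul_one]
        τK := fun _ _ => mem_top _
        fi := fun h => absurd rfl h
        cen := ?_
        fus := ?_ }⟩
    · intro a b hab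
      apply Subtype.ext
      apply e.symm.injective
      exact Subtype.ext hab
    · intro y
      rw [hi₀]
      exact (hKt _ (e.symm _).2).symm
    · intro y h1
      apply htK
      rw [← h1, hi₀]
      exact (e.symm _).2
    · intro c hc
      obtain ⟨k, hk, h1⟩ := hcl c hc
      refine ⟨⟨e ⟨k, hk⟩, mem_top _⟩, ?_⟩
      have h2 : i₀ ⟨e ⟨k, hk⟩, mem_top _⟩ = k := by
        rw [hi₀]
        show ((e.symm (e ⟨k, hk⟩) : ↥K) : G) = k
        rw [e.symm_apply_apply]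
      rw [h2]
      rcases h1 with h1 | h1
      · exact Or.inl h1
      · exact Or.inr (Or.inl h1)
    · exact ⟨n, hO.sw.nt, hO.sw.nz⟩
  · -- OUT
    right
    push Not at hcl
    obtain ⟨g, hg, hgo⟩ := hcl
    have hgo' : ¬ ∃ k ∈ K, g = k ∨ g = t * k := by
      rintro ⟨k, hk, h1 | h1⟩
      · exact (hgo k hk).1 h1
      · exact (hgo k hk).2 h1
    let i₀ : ↥(D.T.subgroupOf D.H) →* G := K.subtype.comp (e.symm.toMonoidHom.comp (sig D))
    have hi₀ : ∀ y : ↥(D.T.subgroupOf D.H), i₀ y = ((e.symm (sig D y) : ↥K) : G) := fun _ => rfl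
    -- the automorphism induced by `g`
    have hgN : g ∈ normalizer (K : Set G) := hst.nK g hg
    let α : MulAut ↥D.T := MulAut.congr e (K.normalizerMonoidHom ⟨g, hgN⟩)
    have hα : ∀ y : ↥D.T, ((e.symm (α y) : ↥K) : G) = g * (e.symm y : ↥K) * g⁻¹ := by
      intro y
      have h1 : α y = e (K.normalizerMonoidHom ⟨g, hgN⟩ (e.symm y)) := rfl
      rw [h1, e.symm_apply_apply, normalizerMonoidHom_apply_apply_coe]
    obtain ⟨⟨h, hh⟩, hhα⟩ := D.PhiT_surjective α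
    have hαh : ∀ y : ↥D.T, ((α y : ↥D.T) : G') = h * y * h⁻¹ := by
      intro y
      rw [← hhα]
      exact D.PhiT_apply ⟨h, hh⟩ y
    have hhT : h ∉ D.T := by
      intro h1
      apply hgo'
      have h2 := hO.inn g hg (e.symm ⟨h, h1⟩ : ↥K) (e.symm ⟨h, h1⟩ : ↥K).2 (by
        intro y hy
        have h3 := hα (e ⟨y, hy⟩)
        have h4 : α (e ⟨y, hy⟩) = ⟨h, h1⟩ * e ⟨y, hy⟩ * (⟨h, h1⟩ : ↥D.T)⁻¹ := Subtype.ext (hαh _)
        rw [h4, map_mul, map_mul, map_inv, e.symm_apply_apply] at h3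
        exact h3.symm)
      exact ⟨_, (e.symm ⟨h, h1⟩ : ↥K).2, h2⟩
    -- `h = k j`
    have hjH : (KO.j : G') ∈ D.H := KO.j.2
    have hTn : ∀ a ∈ D.H, ∀ b ∈ D.H, a ∉ D.T → b ∉ D.T → a * b⁻¹ ∈ D.T := by
      intro a ha b hb haT hbT
      rw [D.mul_mem_iff ha (D.H.inv_mem hb)]
      exact ⟨fun h => absurd h haT, fun h => absurd ((inv_mem_iff).1 h) hbT⟩
    have hk : h * (KO.j : G')⁻¹ ∈ D.T := hTn h hh _ hjH hhT H.jT
    -- `f = k⁻¹ g`
    set k₀ : ↥K := e.symm ⟨h * (KO.j : G')⁻¹, hk⟩ with hk₀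
    set f : G := (k₀ : G)⁻¹ * g with hf
    have hft : f * t = t * f := by
      have h1 := hKt _ (K.inv_mem k₀.2)
      calc f * t = (k₀ : G)⁻¹ * (g * t) := by rw [hf]; group
        _ = (k₀ : G)⁻¹ * t * g := by rw [hg]; group
        _ = t * f := by rw [h1, hf]; group
    have hfo : ¬ ∃ k ∈ K, f = k ∨ f = t * k := by
      rintro ⟨k, hk, h1⟩
      apply hgo'
      have e1 : g = (k₀ : G) * f := by rw [hf]; group
      refine ⟨k₀ * k, K.mul_mem k₀.2 hk, ?_⟩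
      rcases h1 with h1 | h1
      · left; rw [e1, h1]
      · right
        rw [e1, h1, ← mul_assoc, hKt _ k₀.2]; group
    -- action of `f`
    have hfi : ∀ y : ↥D.T, ∀ w : ↥D.T, (w : G') = (KO.j : G') * y * (KO.j : G')⁻¹ →
        f * (e.symm y : ↥K) * f⁻¹ = (e.symm w : ↥K) := by
      intro y w hw
      have h1 : f * (e.symm y : ↥K) * f⁻¹ = (k₀ : G)⁻¹ * (g * (e.symm y : ↥K) * g⁻¹) * k₀ := by rw [hf]; group
      rw [h1, ← hα y]
      have h2 : w = (⟨h * (KO.j : G')⁻¹, hk⟩ : ↥D.T)⁻¹ * α y * ⟨h * (KO.j : G')⁻¹, hk⟩ := by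
        apply Subtype.ext
        show (w : G') = (h * (KO.j : G')⁻¹)⁻¹ * (α y : ↥D.T) * (h * (KO.j : G')⁻¹)
        rw [hw, hαh]; group
      rw [h2, map_mul, map_mul, map_inv]
      rfl
    have hτ : ∀ y : ↥D.H, KO.τ y = KO.j * y * KO.j⁻¹ := by
      rcases KO.j_or with h1 | h1
      · exfalso
        have h2 := H.jO
        rw [h1, mul_one] at h2
        exact KO.z1 h2.symm
      · exact h1.2
    have hτK : ∀ y ∈ D.T.subgroupOf D.H, KO.τ y ∈ D.T.subgroupOf D.H := by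
      intro y hy
      rw [hτ]
      exact D.T_conj _ hjH _ hy
    have hE : KO.E ≤ D.T.subgroupOf D.H := fun y hy => H.EK y hy
    have hzz : (KO.z : G') = KC.z := H.zz
    have hzi : i₀ ⟨KO.z, hE (KO.Q_le_E (KO.A_le_Q KO.z_A))⟩ = ((e.symm KC.z : ↥K) : G) := by
      rw [hi₀]
      have h1 : sig D ⟨KO.z, hE (KO.Q_le_E (KO.A_le_Q KO.z_A))⟩ = KC.z := Subtype.ext hzz
      rw [h1]
    have hcent : ∀ c : G, c * t = t * c → (∀ x ∈ K, x * c = c * x) → c = 1 ∨ c = t := by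
      intro c hc hcK
      have h1 := hst.cK c hc hcK
      exact (mem_zp hst.tt c).1 h1
    have hff : f * f = i₀ ⟨KO.z, hE (KO.Q_le_E (KO.A_le_Q KO.z_A))⟩ ∨
        f * f = t * i₀ ⟨KO.z, hE (KO.Q_le_E (KO.A_le_Q KO.z_A))⟩ := by
      rw [hzi]
      set zK : ↥K := e.symm KC.z with hzK
      have hzz2 : (zK : G) * zK = 1 := by
        have h1 : zK * zK = 1 := by rw [hzK, ← map_mul, KC.zz, map_one]
        exact congrArg Subtype.val h1
      have hzi' : (zK : G)⁻¹ = zK := inv_eq_of_mul_eq_one_left hzz2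
      have h1 : ∀ x ∈ K, x * (f * f * (zK : G)) = f * f * (zK : G) * x := by
        intro x hx
        -- `f f x (f f)⁻¹ = z x z⁻¹`
        have hy1 : ∀ y : ↥D.T, (KO.j : G') * y * (KO.j : G')⁻¹ ∈ D.T := fun y => D.T_conj _ hjH _ y.2
        have h2 := hfi (e ⟨x, hx⟩) ⟨_, hy1 _⟩ rfl
        rw [e.symm_apply_apply] at h2
        have h3 := hfi ⟨(KO.j : G') * (e ⟨x, hx⟩ : ↥D.T) * (KO.j : G')⁻¹, hy1 _⟩ (KC.z * e ⟨x, hx⟩ * KC.z⁻¹) (by
          show (KC.z : G') * (e ⟨x, hx⟩ : ↥D.T) * (KC.z : G')⁻¹ = _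
          rw [← hzz, show (KO.z : G') = KO.j * KO.j from (congrArg Subtype.val H.jO).symm]
          group)
        rw [← h2, map_mul, map_mul, map_inv, e.symm_apply_apply] at h3
        have h4 : f * (f * x * f⁻¹) * f⁻¹ = (zK : G) * x * (zK : G)⁻¹ := h3
        have h5 : f * f * x = (zK : G) * x * zK * (f * f) := by
          calc f * f * x = (f * (f * x * f⁻¹) * f⁻¹) * (f * f) := by group
            _ = (zK : G) * x * (zK : G)⁻¹ * (f * f) := by rw [h4]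
            _ = _ := by rw [hzi']
        -- `z` commutes with `f f`
        have h6 : f * f * (zK : G) = (zK : G) * (f * f) := by
          have h7 := hfi KC.z KC.z (by
            rw [← hzz]
            have h8 : KO.j * KO.z = KO.z * KO.j := by rw [← H.jO, mul_assoc]
            have h9 : (KO.j : G') * KO.z = KO.z * KO.j := congrArg Subtype.val h8
            rw [h9]; group)
          rw [mul_inv_eq_iff_eq_mul] at h7
          rw [mul_assoc, h7, ← mul_assoc, h7, mul_assoc]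
        have h7 : f * f * (zK : G) * x = (zK : G) * (f * f * x) := by rw [h6]; group
        rw [h7, h5, h6]
        calc x * (zK * (f * f)) = 1 * x * zK * (f * f) := by group
          _ = (zK * zK) * x * zK * (f * f) := by rw [hzz2]
          _ = zK * (zK * x * zK * (f * f)) := by group
      have h2 : (f * f * (zK : G)) * t = t * (f * f * (zK : G)) := by
        have h3 := hKt _ zK.2
        calc (f * f * (zK : G)) * t = f * (f * (zK * t)) := by group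
          _ = f * (f * t) * zK := by rw [h3]; group
          _ = f * (t * f) * zK := by rw [hft]
          _ = (f * t) * (f * zK) := by group
          _ = (t * f) * (f * zK) := by rw [hft]
          _ = t * (f * f * (zK : G)) := by group
      rcases hcent _ h2 h1 with h3 | h3
      · left
        rw [mul_eq_one_iff_eq_inv, hzi'] at h3
        exact h3
      · right
        have h4 : f * f = f * f * (zK : G) * zK := by rw [mul_assoc (f * f), hzz2, mul_one]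
        rw [h4, h3]
    refine ⟨i₀, t, f,
      { finG := C.fin
        perf := hperf
        inj := ?_
        tt := hst.tt
        t1 := hst.t1
        ti := ?_
        tY := ?_
        EK := hE
        sK := H.sK
        Yj := ?_
        fj := ?_
        ft := hft
        τK := hτK
        fi := ?_
        cen := ?_
        fus := ?_ }⟩
    · intro a b hab
      apply sig_injective D
      apply e.symm.injective
      exact Subtype.ext hab
    · intro y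
      rw [hi₀]
      exact (hKt _ (e.symm _).2).symm
    · intro y h1
      apply htK
      rw [← h1, hi₀]
      exact (e.symm _).2
    · intro y
      by_cases hy : (y : G') ∈ D.T
      · exact Or.inl hy
      · exact Or.inr (hTn y y.2 _ hjH hy H.jT)
    · have hjK : KO.j ∉ D.T.subgroupOf D.H := H.jT
      rcases hff with h1 | h1
      · exact Or.inr (Or.inl ⟨hjK, h1⟩)
      · exact Or.inr (Or.inr ⟨hjK, h1⟩)
    · intro _ y hy
      rw [hi₀, hi₀]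
      apply hfi
      show ((KO.τ y : ↥D.H) : G') = KO.j * y * (KO.j : G')⁻¹
      rw [hτ]
      rfl
    · intro c hc
      have hval : ∀ k (hk : k ∈ K), ∃ y, i₀ y = k := by
        intro k hk
        refine ⟨⟨⟨(e ⟨k, hk⟩ : ↥D.T), D.T_le (e ⟨k, hk⟩).2⟩, (e ⟨k, hk⟩).2⟩, ?_⟩
        rw [hi₀]
        have h1 : sig D ⟨⟨(e ⟨k, hk⟩ : ↥D.T), D.T_le (e ⟨k, hk⟩).2⟩, (e ⟨k, hk⟩).2⟩ = e ⟨k, hk⟩ := rfl
        rw [h1, e.symm_apply_apply]
      by_cases hco : ∃ k ∈ K, c = k ∨ c = t * k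
      · obtain ⟨k, hk, h1⟩ := hco
        obtain ⟨y, hy⟩ := hval k hk
        refine ⟨y, ?_⟩
        rw [hy]
        rcases h1 with h1 | h1
        · exact Or.inl h1
        · exact Or.inr (Or.inl h1)
      · have hfi' : f⁻¹ * t = t * f⁻¹ := by
          rw [inv_mul_eq_iff_eq_mul, ← mul_assoc, hft, mul_inv_cancel_right]
        have hfo' : ¬ ∃ k ∈ K, f⁻¹ = k ∨ f⁻¹ = t * k := by
          rintro ⟨k, hk, h1⟩
          apply hfo
          refine ⟨k⁻¹, K.inv_mem hk, ?_⟩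
          rcases h1 with h1 | h1
          · left; rw [← h1, inv_inv]
          · right
            have h2 : f = (t * k)⁻¹ := by rw [← h1, inv_inv]
            have ti : t⁻¹ = t := inv_eq_of_mul_eq_one_left hst.tt
            rw [h2, mul_inv_rev, ti, hKt _ (K.inv_mem hk)]
        obtain ⟨k, hk, h1⟩ := hO.two c f⁻¹ hc hfi' hco hfo'
        obtain ⟨y, hy⟩ := hval k hk
        refine ⟨y, ?_⟩
        rw [hy]
        rcases h1 with h1 | h1
        · exact Or.inr (Or.inr (Or.inl (by rw [← h1]; group)))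
        · exact Or.inr (Or.inr (Or.inr (by rw [← h1]; group)))
    · rw [hzi]
      exact ⟨n, hO.sw.nt, hO.sw.nz⟩

end Pos

end Cfsg.Agent.OddHalf.D7Tits.PosOf

end

-- merged: Cfsg.Agent.TitsK.KG
section

/-!
`KG L` : the K-facts `Defs.KT` for a subgroup `L` of a group `G`, in terms of elements of `G`; `KG.kt : KT ↥L`.
-/

set_option autoImplicit false

namespace Cfsg.Agent.TitsK

open Cfsg.Agent.OddHalf.D7Tits.Defs
open scoped commutatorElement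

/-- the K-facts for the subgroup `L` -/
structure KG {G : Type*} [Group G] (L : Subgroup G) where
  z : G
  x : G
  s : G
  j : G
  q : ZMod 5 → G
  r : G
  aj : G
  aw : G
  t : G
  U : Subgroup G
  P : Subgroup G
  Q : Subgroup G
  A : Subgroup G
  E : Subgroup G
  A₁ : Subgroup G
  fin : Finite ↥L
  P_le : P ≤ L
  t_conj : ∀ y ∈ L, t * y * t⁻¹ ∈ L
  t_conj' : ∀ y ∈ L, t⁻¹ * y * t ∈ L
  zz : z * z = 1
  z1 : z ≠ 1
  mem_P : ∀ y ∈ L, (y ∈ P ↔ y * z = z * y)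
  z_A : z ∈ A
  A_le_Q : A ≤ Q
  Q_le_E : Q ≤ E
  E_le_P : E ≤ P
  Q_le_U : Q ≤ U
  U_le_P : U ≤ P
  x_E : x ∈ E
  s_U : s ∈ U
  j_U : j ∈ U
  r_Q : r ∈ Q
  q_A : ∀ k, q k ∈ A
  card_A : Nat.card ↥A = 2 ^ 5
  card_Q : Nat.card ↥Q = 2 ^ 9
  sq_A : ∀ a ∈ A, a * a = 1
  x5 : x ^ 5 = 1
  x1 : x ≠ 1
  s4 : s ^ 4 = 1
  x_s : s⁻¹ * x * s = x * x
  j_or : j = 1 ∨ (j * j = z ∧ t = j)
  nor_A : ∀ p ∈ P, ∀ a ∈ A, p * a * p⁻¹ ∈ A
  nor_Q : ∀ p ∈ P, ∀ a ∈ Q, p * a * p⁻¹ ∈ Q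
  nor_E : ∀ p ∈ P, ∀ a ∈ E, p * a * p⁻¹ ∈ E
  E_cases : ∀ e ∈ E, ∃ u ∈ Q, ∃ k : ℕ, e = u * x ^ k
  P_cases : ∀ p ∈ P, ∃ e ∈ E, ∃ k l : ℕ, p = e * s ^ k * j ^ l
  U_cases : ∀ p ∈ U, ∃ u ∈ Q, ∃ k l : ℕ, p = u * s ^ k * j ^ l
  sq_E : ∀ p ∈ P, p * p ∈ E → ∃ e ∈ E, ∃ l : ℕ, p = e * j ^ l ∨ p = e * (s * s) * j ^ l
  E_mem : ∀ p ∈ P, p ^ 5 = 1 → p ∈ E
  E_le : E ≤ Subgroup.closure {p | p ∈ P ∧ p ^ 5 = 1}
  Q_mem : ∀ e ∈ E, e ^ 4 = 1 → e ∈ Q
  Q_pow : ∀ e ∈ Q, e ^ 4 = 1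
  comm_Q : (⁅Q, Q⁆ : Subgroup G) = A
  E_gen : E ≤ Subgroup.closure {r, x}
  syl5 : ∀ g ∈ E, g ^ 5 = 1 → g ≠ 1 → ∃ u ∈ Q, ∃ k : ℕ, g = u * x ^ k * u⁻¹
  cent_x : ∀ p ∈ P, p * x = x * p → ∃ k l m : ℕ, p = x ^ k * z ^ l * j ^ m
  cent_A_x : ∀ a ∈ A, a * x = x * a → a = 1 ∨ a = z
  cent_Q : ∀ y ∈ L, (∀ e ∈ Q, y * e = e * y) → y = 1 ∨ y = z
  cent_A : ∀ y ∈ L, (∀ a ∈ A, y * a = a * y) → ∃ a ∈ A, ∃ l : ℕ, y = a * j ^ l
  norm_A : ∀ y ∈ L, (∀ a ∈ A, y * a * y⁻¹ ∈ A) → y ∈ P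
  tx : t * x * t⁻¹ = x
  ts : t * s * t⁻¹ = s
  tj : t * j * t⁻¹ = j
  tA : ∀ a ∈ A, t * a * t⁻¹ = a
  tQ : ∀ a ∈ Q, t * a * t⁻¹ * a⁻¹ ∈ A
  tt : t * t = z
  tr : t * r * t⁻¹ = r * aj
  aj_A : aj ∈ A
  aw_A : aw ∈ A
  KA : ∀ a ∈ A, r * a * (r * a) = r * r →
    (∀ k : ℕ, r * a * (x ^ k * (r * a) * (x ^ k)⁻¹) * (r * a)⁻¹ * (x ^ k * (r * a) * (x ^ k)⁻¹)⁻¹ =
      r * (x ^ k * r * (x ^ k)⁻¹) * r⁻¹ * (x ^ k * r * (x ^ k)⁻¹)⁻¹) →
    r * a * (x * (r * a) * x⁻¹) * (x ^ 2 * (r * a) * (x ^ 2)⁻¹) * (x ^ 3 * (r * a) * (x ^ 3)⁻¹) *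
        (x ^ 4 * (r * a) * (x ^ 4)⁻¹) =
      r * (x * r * x⁻¹) * (x ^ 2 * r * (x ^ 2)⁻¹) * (x ^ 3 * r * (x ^ 3)⁻¹) * (x ^ 4 * r * (x ^ 4)⁻¹) →
    a = 1 ∨ a = aj ∨ a = aw ∨ a = aj * aw
  pr_A : r * (x * r * x⁻¹) * (x ^ 2 * r * (x ^ 2)⁻¹) * (x ^ 3 * r * (x ^ 3)⁻¹) * (x ^ 4 * r * (x ^ 4)⁻¹) ∈ A
  xr : ∀ k : ℕ, x ^ k * r * (x ^ k)⁻¹ * r⁻¹ ∈ A → x ^ k = 1
  irr_A : ∀ B : Subgroup G, z ∈ B → B ≤ A → (∀ b ∈ B, x⁻¹ * b * x ∈ B) → (∃ b ∈ B, b ≠ 1 ∧ b ≠ z) → A ≤ B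
  irr_Q : ∀ B : Subgroup G, A ≤ B → B ≤ Q → (∀ b ∈ B, x⁻¹ * b * x ∈ B) → (∃ b ∈ B, b ∉ A) → Q ≤ B
  KS : ∃ a ∈ A, s * r * s⁻¹ = (x ^ 3)⁻¹ * r * x ^ 3 * ((x ^ 4)⁻¹ * r * x ^ 4) * a
  KW : ∀ a, a = aw ∨ a = aj * aw →
    s * a * s⁻¹ ≠ ((x ^ 4)⁻¹ * r * x ^ 4)⁻¹ * ((x ^ 3)⁻¹ * a * x ^ 3) * ((x ^ 4)⁻¹ * r * x ^ 4) * ((x ^ 4)⁻¹ * a * x ^ 4)
  q_x : ∀ k, x⁻¹ * q k * x = q (k + 1)
  q_s : ∀ k, s⁻¹ * q k * s = q (2 * k)
  q_prod : q 0 * q 1 * q 2 * q 3 * q 4 = 1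
  A_gen : A ≤ Subgroup.closure ({z} ∪ Set.range q)
  q_Q : ∀ u ∈ Q, ∀ k, u⁻¹ * q k * u = q k ∨ u⁻¹ * q k * u = q k * z
  Q_ker : ∀ u ∈ Q, (∀ k, u⁻¹ * q k * u = q k) → u ∈ A
  r0 : r⁻¹ * q 0 * r = q 0 * z
  r1 : r⁻¹ * q 1 * r = q 1 * z
  r2 : r⁻¹ * q 2 * r = q 2
  r3 : r⁻¹ * q 3 * r = q 3
  r4 : r⁻¹ * q 4 * r = q 4
  pt : ∀ k, ∃ g ∈ L, g⁻¹ * z * g = q k
  pt' : ∀ k, ∃ g ∈ L, g⁻¹ * z * g = z * q k
  sym : ∀ g ∈ L, g⁻¹ * z * g ∈ A → g * z * g⁻¹ ∈ A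
  line : ∃ g ∈ L, g⁻¹ * z * g = q 0 ∧ g⁻¹ * q 0 * g = z * q 0
  U_p : IsPGroup 2 ↥U
  U_odd : ¬ 2 ∣ U.relIndex L
  A₁_le : A₁ ≤ Q
  A₁_ne : A₁ ≠ A
  A₁_card : Nat.card ↥A₁ = 2 ^ 5
  A₁_sq : ∀ a ∈ A₁, a * a = 1
  A₁_nor : ∀ u ∈ U, ∀ a ∈ A₁, u * a * u⁻¹ ∈ A₁
  cent_A₁ : ∀ y ∈ U, (∀ a ∈ A₁, y * a = a * y) → y ∈ A₁
  A₁_conj : ∀ a ∈ A₁, a ≠ 1 → ∃ g ∈ L, g⁻¹ * a * g ∈ A
  K2 : ∀ B : Subgroup G, B ≤ U → (∀ a ∈ B, a * a = 1) → (∀ u ∈ U, ∀ a ∈ B, u * a * u⁻¹ ∈ B) → 2 ^ 5 ≤ Nat.card ↥B →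
    B = A ∨ B = A₁
  KF : j = 1 → ∀ B : Subgroup G, B ≤ U → (∀ a ∈ B, a * a ∈ A₁) → Nat.card ↥B < 2 ^ 9
  KW₁ : ∀ B : Subgroup G, B ≤ U → (∀ u ∈ B, ∀ a ∈ A₁, a * u * a⁻¹ * u⁻¹ = 1 ∨ a * u * a⁻¹ * u⁻¹ = z) →
    Nat.card ↥B ≤ 2 ^ 8
  K3 : ∀ B : Subgroup G, B ≤ L → (∀ a ∈ B, a * a = 1) → Nat.card ↥B ≤ 2 ^ 8
  K4 : ∀ y ∈ L, (∀ u ∈ U, y * u * y⁻¹ ∈ U) → y ∈ U
  cent_U : ∀ y ∈ L, (∀ u ∈ U, y * u = u * y) → y = 1 ∨ y = z
  pts : ∀ g ∈ L, g⁻¹ * z * g ∈ A → g⁻¹ * z * g = z ∨ ∃ k, g⁻¹ * z * g = q k ∨ g⁻¹ * z * g = z * q k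

namespace KG

variable {G : Type*} [Group G] {L : Subgroup G} (K : KG L)

theorem U_le : K.U ≤ L := K.U_le_P.trans K.P_le
theorem E_le_L : K.E ≤ L := K.E_le_P.trans K.P_le
theorem Q_le : K.Q ≤ L := K.Q_le_U.trans K.U_le
theorem A_le : K.A ≤ L := K.A_le_Q.trans K.Q_le

/-- `z` in `L` -/
def zL : ↥L := ⟨K.z, K.A_le K.z_A⟩
/-- `x` in `L` -/
def xL : ↥L := ⟨K.x, K.E_le_L K.x_E⟩
/-- `s` in `L` -/
def sL : ↥L := ⟨K.s, K.U_le K.s_U⟩
/-- `j` in `L` -/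
def jL : ↥L := ⟨K.j, K.U_le K.j_U⟩
/-- `q` in `L` -/
def qL (k : ZMod 5) : ↥L := ⟨K.q k, K.A_le (K.q_A k)⟩
/-- `r` in `L` -/
def rL : ↥L := ⟨K.r, K.Q_le K.r_Q⟩
/-- `aj` in `L` -/
def ajL : ↥L := ⟨K.aj, K.A_le K.aj_A⟩
/-- `aw` in `L` -/
def awL : ↥L := ⟨K.aw, K.A_le K.aw_A⟩

/-- conjugation by `t` -/
def tau : MulAut ↥L where
  toFun y := ⟨K.t * y * K.t⁻¹, K.t_conj y y.2⟩
  invFun y := ⟨K.t⁻¹ * y * K.t, K.t_conj' y y.2⟩
  left_inv y := by
    apply Subtype.ext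
    show K.t⁻¹ * (K.t * y * K.t⁻¹) * K.t = y
    group
  right_inv y := by
    apply Subtype.ext
    show K.t * (K.t⁻¹ * y * K.t) * K.t⁻¹ = y
    group
  map_mul' y w := by
    apply Subtype.ext
    show K.t * (y * w) * K.t⁻¹ = K.t * y * K.t⁻¹ * (K.t * w * K.t⁻¹)
    group

theorem coe_tau (y : ↥L) : ((K.tau y : ↥L) : G) = K.t * y * K.t⁻¹ := rfl

theorem card_sub {B : Subgroup G} (h : B ≤ L) : Nat.card ↥(B.subgroupOf L) = Nat.card ↥B :=
  Nat.card_congr (Subgroup.subgroupOfEquivOfLe h).toEquiv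

theorem map_sub {B : Subgroup G} (h : B ≤ L) : (B.subgroupOf L).map L.subtype = B :=
  Subgroup.map_subgroupOf_eq_of_le h

theorem le_of_map {B C : Subgroup ↥L} (h : B.map L.subtype ≤ C.map L.subtype) : B ≤ C :=
  (Subgroup.map_le_map_iff_of_injective L.subtype_injective).1 h

theorem mem_of_map {B : Subgroup ↥L} {y : ↥L} (h : (y : G) ∈ B.map L.subtype) : y ∈ B := by
  obtain ⟨b, hb, he⟩ := h
  have e : b = y := Subtype.ext he
  rw [← e]
  exact hb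

/-- **the K-facts for `↥L`** -/
def kt : KT ↥L where
  z := K.zL
  x := K.xL
  s := K.sL
  j := K.jL
  q := K.qL
  r := K.rL
  aj := K.ajL
  aw := K.awL
  τ := K.tau
  U := K.U.subgroupOf L
  P := K.P.subgroupOf L
  Q := K.Q.subgroupOf L
  A := K.A.subgroupOf L
  E := K.E.subgroupOf L
  fin := K.fin
  zz := Subtype.ext K.zz
  z1 := fun h => K.z1 (congrArg Subtype.val h)
  mem_P := fun y => by
    rw [Subgroup.mem_subgroupOf, K.mem_P y y.2]
    exact ⟨fun h => Subtype.ext h, fun h => congrArg Subtype.val h⟩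
  z_A := K.z_A
  A_le_Q := fun _ h => K.A_le_Q h
  Q_le_E := fun _ h => K.Q_le_E h
  E_le_P := fun _ h => K.E_le_P h
  Q_le_U := fun _ h => K.Q_le_U h
  U_le_P := fun _ h => K.U_le_P h
  x_E := K.x_E
  s_U := K.s_U
  j_U := K.j_U
  r_Q := K.r_Q
  q_A := fun k => K.q_A k
  card_A := by rw [card_sub K.A_le, K.card_A]
  card_Q := by rw [card_sub K.Q_le, K.card_Q]
  sq_A := fun a ha => Subtype.ext (K.sq_A a ha)
  x5 := Subtype.ext K.x5
  x1 := fun h => K.x1 (congrArg Subtype.val h)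
  s4 := Subtype.ext K.s4
  x_s := Subtype.ext K.x_s
  j_or := by
    rcases K.j_or with h | ⟨h, ht⟩
    · exact Or.inl (Subtype.ext h)
    · refine Or.inr ⟨Subtype.ext h, fun y => Subtype.ext ?_⟩
      rw [coe_tau, ht]
      rfl
  nor_A := fun p hp a ha => K.nor_A p hp a ha
  nor_Q := fun p hp a ha => K.nor_Q p hp a ha
  nor_E := fun p hp a ha => K.nor_E p hp a ha
  E_cases := fun e he => by
    obtain ⟨u, hu, k, h⟩ := K.E_cases e he
    exact ⟨⟨u, K.Q_le hu⟩, hu, k, Subtype.ext h⟩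
  P_cases := fun p hp => by
    obtain ⟨e, he, k, l, h⟩ := K.P_cases p hp
    exact ⟨⟨e, K.E_le_L he⟩, he, k, l, Subtype.ext h⟩
  U_cases := fun p hp => by
    obtain ⟨e, he, k, l, h⟩ := K.U_cases p hp
    exact ⟨⟨e, K.Q_le he⟩, he, k, l, Subtype.ext h⟩
  sq_E := fun p hp hpp => by
    obtain ⟨e, he, l, h⟩ := K.sq_E p hp hpp
    refine ⟨⟨e, K.E_le_L he⟩, he, l, ?_⟩
    rcases h with h | h
    · exact Or.inl (Subtype.ext h)
    · exact Or.inr (Subtype.ext h)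
  E_mem := fun p hp h => K.E_mem p hp (congrArg Subtype.val h)
  E_le := by
    apply le_of_map
    rw [map_sub K.E_le_L, MonoidHom.map_closure]
    refine K.E_le.trans (Subgroup.closure_mono ?_)
    rintro p ⟨hp, h5⟩
    exact ⟨⟨p, K.P_le hp⟩, ⟨hp, Subtype.ext h5⟩, rfl⟩
  Q_mem := fun e he h => K.Q_mem e he (congrArg Subtype.val h)
  Q_pow := fun e he => Subtype.ext (K.Q_pow e he)
  comm_Q := by
    apply Subgroup.map_injective L.subtype_injective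
    rw [Subgroup.map_commutator, map_sub K.Q_le, map_sub K.A_le, K.comm_Q]
  E_gen := by
    apply le_of_map
    rw [map_sub K.E_le_L, MonoidHom.map_closure]
    refine K.E_gen.trans (Subgroup.closure_mono ?_)
    rintro p (hp | hp)
    · exact ⟨K.rL, by simp, hp.symm⟩
    · exact ⟨K.xL, by simp, (Set.mem_singleton_iff.1 hp).symm⟩
  syl5 := fun g hg h5 h1 => by
    obtain ⟨u, hu, k, h⟩ := K.syl5 g hg (congrArg Subtype.val h5) fun h => h1 (Subtype.ext h)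
    exact ⟨⟨u, K.Q_le hu⟩, hu, k, Subtype.ext h⟩
  cent_x := fun p hp h => by
    obtain ⟨k, l, m, h1⟩ := K.cent_x p hp (congrArg Subtype.val h)
    exact ⟨k, l, m, Subtype.ext h1⟩
  cent_A_x := fun a ha h => by
    rcases K.cent_A_x a ha (congrArg Subtype.val h) with h1 | h1
    · exact Or.inl (Subtype.ext h1)
    · exact Or.inr (Subtype.ext h1)
  cent_E := fun y h => by
    rcases K.cent_Q y y.2 fun e he => congrArg Subtype.val (h ⟨e, K.Q_le he⟩ (K.Q_le_E he)) with h1 | h1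
    · exact Or.inl (Subtype.ext h1)
    · exact Or.inr (Subtype.ext h1)
  cent_Q := fun y h => by
    rcases K.cent_Q y y.2 fun e he => congrArg Subtype.val (h ⟨e, K.Q_le he⟩ he) with h1 | h1
    · exact Or.inl (Subtype.ext h1)
    · exact Or.inr (Subtype.ext h1)
  cent_A := fun y h => by
    obtain ⟨a, ha, l, h1⟩ := K.cent_A y y.2 fun e he => congrArg Subtype.val (h ⟨e, K.A_le he⟩ he)
    exact ⟨⟨a, K.A_le ha⟩, ha, l, Subtype.ext h1⟩
  norm_A := fun y h => K.norm_A y y.2 fun a ha => h ⟨a, K.A_le ha⟩ ha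
  τz := Subtype.ext (K.tA _ K.z_A)
  τx := Subtype.ext K.tx
  τs := Subtype.ext K.ts
  τj := Subtype.ext K.tj
  τA := fun a ha => Subtype.ext (K.tA a ha)
  τQ := fun a ha => K.tQ a ha
  ττ := fun y => by
    apply Subtype.ext
    show K.t * (K.t * y * K.t⁻¹) * K.t⁻¹ = K.z * y * K.z⁻¹
    rw [← K.tt]
    group
  τr := Subtype.ext K.tr
  aj_A := K.aj_A
  aw_A := K.aw_A
  KA := fun a ha h1 h2 h3 => by
    have h := K.KA a ha (congrArg Subtype.val h1) (fun k => by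
      have h4 := h2 k
      rw [commutatorElement_def, commutatorElement_def] at h4
      exact congrArg Subtype.val h4) (congrArg Subtype.val h3)
    rcases h with h | h | h | h
    · exact Or.inl (Subtype.ext h)
    · exact Or.inr (Or.inl (Subtype.ext h))
    · exact Or.inr (Or.inr (Or.inl (Subtype.ext h)))
    · exact Or.inr (Or.inr (Or.inr (Subtype.ext h)))
  pr_A := K.pr_A
  xr := fun k h => Subtype.ext (K.xr k h)
  irr_A := fun B hz hB hx hb => by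
    apply le_of_map
    rw [map_sub K.A_le]
    refine K.irr_A _ ⟨K.zL, hz, rfl⟩ ?_ ?_ ?_
    · rintro _ ⟨b, hb, rfl⟩
      exact hB hb
    · rintro _ ⟨b, hb, rfl⟩
      exact ⟨_, hx b hb, rfl⟩
    · obtain ⟨b, hb, h1, h2⟩ := hb
      exact ⟨b, ⟨b, hb, rfl⟩, fun h => h1 (Subtype.ext h), fun h => h2 (Subtype.ext h)⟩
  irr_Q := fun B hA hB hx hb => by
    apply le_of_map
    rw [map_sub K.Q_le]
    refine K.irr_Q _ ?_ ?_ ?_ ?_
    · intro a ha
      exact ⟨⟨a, K.A_le ha⟩, hA ha, rfl⟩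
    · rintro _ ⟨b, hb, rfl⟩
      exact hB hb
    · rintro _ ⟨b, hb, rfl⟩
      exact ⟨_, hx b hb, rfl⟩
    · obtain ⟨b, hb, h1⟩ := hb
      exact ⟨b, ⟨b, hb, rfl⟩, h1⟩
  KS := by
    obtain ⟨a, ha, h⟩ := K.KS
    exact ⟨⟨a, K.A_le ha⟩, ha, Subtype.ext h⟩
  KW := fun a ha h => by
    refine K.KW a ?_ (congrArg Subtype.val h)
    rcases ha with rfl | rfl
    · exact Or.inl rfl
    · exact Or.inr rfl
  q_x := fun k => Subtype.ext (K.q_x k)
  q_s := fun k => Subtype.ext (K.q_s k)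
  q_prod := Subtype.ext K.q_prod
  A_gen := by
    apply le_of_map
    rw [map_sub K.A_le, MonoidHom.map_closure]
    refine K.A_gen.trans (Subgroup.closure_mono ?_)
    rintro p (hp | ⟨k, rfl⟩)
    · exact ⟨K.zL, Or.inl rfl, (Set.mem_singleton_iff.1 hp).symm⟩
    · exact ⟨K.qL k, Or.inr ⟨k, rfl⟩, rfl⟩
  q_Q := fun u hu k => by
    rcases K.q_Q u hu k with h | h
    · exact Or.inl (Subtype.ext h)
    · exact Or.inr (Subtype.ext h)
  Q_ker := fun u hu h => K.Q_ker u hu fun k => congrArg Subtype.val (h k)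
  r0 := Subtype.ext K.r0
  r1 := Subtype.ext K.r1
  r2 := Subtype.ext K.r2
  r3 := Subtype.ext K.r3
  r4 := Subtype.ext K.r4
  pt := fun k => by
    obtain ⟨g, hg, h⟩ := K.pt k
    exact ⟨⟨g, hg⟩, Subtype.ext h⟩
  pt' := fun k => by
    obtain ⟨g, hg, h⟩ := K.pt' k
    exact ⟨⟨g, hg⟩, Subtype.ext h⟩
  sym := fun g h => K.sym g g.2 h
  line := by
    obtain ⟨g, hg, h, h'⟩ := K.line
    exact ⟨⟨g, hg⟩, Subtype.ext h, Subtype.ext h'⟩
  U_p := KAbs.isPGroup_sub K.U_p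
  U_odd := K.U_odd
  A₁ := K.A₁.subgroupOf L
  A₁_le := fun _ h => K.A₁_le h
  A₁_ne := fun h => by
    apply K.A₁_ne
    rw [← map_sub (K.A₁_le.trans K.Q_le), ← map_sub K.A_le, h]
  A₁_card := by rw [card_sub (K.A₁_le.trans K.Q_le), K.A₁_card]
  A₁_sq := fun a ha => Subtype.ext (K.A₁_sq a ha)
  A₁_nor := fun u hu a ha => K.A₁_nor u hu a ha
  cent_A₁ := fun y hy h => K.cent_A₁ y hy fun a ha =>
    congrArg Subtype.val (h ⟨a, K.Q_le (K.A₁_le ha)⟩ ha)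
  A₁_conj := fun a ha h1 => by
    obtain ⟨g, hg, h⟩ := K.A₁_conj a ha fun h => h1 (Subtype.ext h)
    exact ⟨⟨g, hg⟩, h⟩
  K2 := fun B hB hsq hn hc => by
    have h := K.K2 (B.map L.subtype) ?_ ?_ ?_ ?_
    · rcases h with h | h
      · exact Or.inl (KAbs.eq_subgroupOf h)
      · exact Or.inr (KAbs.eq_subgroupOf h)
    · rintro _ ⟨b, hb, rfl⟩
      exact hB hb
    · rintro _ ⟨b, hb, rfl⟩
      rw [← map_mul, hsq b hb, map_one]
    · rintro u hu _ ⟨b, hb, rfl⟩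
      exact ⟨_, hn ⟨u, K.U_le hu⟩ hu b hb, rfl⟩
    · rw [KAbs.card_map]
      exact hc
  KF := fun hj B hB _ hsq _ _ => by
    rw [← KAbs.card_map]
    refine K.KF (congrArg Subtype.val hj) _ ?_ ?_
    · rintro _ ⟨b, hb, rfl⟩
      exact hB hb
    · rintro _ ⟨b, hb, rfl⟩
      exact hsq b hb
  KW₁ := fun B hB h => by
    rw [← KAbs.card_map]
    refine K.KW₁ _ ?_ ?_
    · rintro _ ⟨b, hb, rfl⟩
      exact hB hb
    · rintro _ ⟨b, hb, rfl⟩ a ha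
      have h1 := h b hb ⟨a, K.Q_le (K.A₁_le ha)⟩ ha
      rw [commutatorElement_def] at h1
      rcases h1 with h1 | h1
      · exact Or.inl (congrArg Subtype.val h1)
      · exact Or.inr (congrArg Subtype.val h1)
  K3 := fun B hsq => by
    rw [← KAbs.card_map]
    refine K.K3 _ ?_ ?_
    · rintro _ ⟨b, hb, rfl⟩
      exact b.2
    · rintro _ ⟨b, hb, rfl⟩
      rw [← map_mul, hsq b hb, map_one]
  K4 := fun y h => K.K4 y y.2 fun u hu => h ⟨u, K.U_le hu⟩ hu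
  cent_U := fun y h => by
    rcases K.cent_U y y.2 fun u hu => congrArg Subtype.val (h ⟨u, K.U_le hu⟩ hu) with h1 | h1
    · exact Or.inl (Subtype.ext h1)
    · exact Or.inr (Subtype.ext h1)
  pts := fun g h => by
    rcases K.pts g g.2 h with h1 | ⟨k, h1 | h1⟩
    · exact Or.inl (Subtype.ext h1)
    · exact Or.inr ⟨k, Or.inl (Subtype.ext h1)⟩
    · exact Or.inr ⟨k, Or.inr (Subtype.ext h1)⟩

end KG

end Cfsg.Agent.TitsK

end

-- merged: Cfsg.Agent.TitsK.KChkD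
section

/-!
Check for KThree: (KF) (helper795).
-/

set_option autoImplicit false
set_option Elab.async false

namespace Cfsg.Agent.TitsK

open Cfsg.Lie Cfsg.Agent.ChevalleyStructure.TwF4.Tables
open Cfsg.Agent.FourTwo.Base hiding bar bar_lt
open Cfsg.Agent.FourTwo.BN Cfsg.Agent.FourTwo.Comm Cfsg.Agent.FourTwo.Classes
open Cfsg.Agent.FourTwo.UCode (mulU invU conjU lets colW colF force force_eq mem_lets wel_lets wel_mem)

theorem cnt_KA_0 : cntP pKA gens10 0 = 256 := by decide +kernel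
theorem cnt_KA_1 : cntP pKA gens10 74 = 0 := by decide +kernel
theorem cnt_KA_2 : cntP pKA gens10 513 = 256 := by decide +kernel
theorem cnt_KA_3 : cntP pKA gens10 140875 = 0 := by decide +kernel

theorem cnt_KA : cntP pKA gens12 0 = 512 := cnt_of4 cnt_KA_0 cnt_KA_1 cnt_KA_2 cnt_KA_3 rfl

end Cfsg.Agent.TitsK

end

-- merged: Cfsg.Agent.TitsK.KThree
section

/-!
# K-facts of the Tits group by counting codes (helper795)

* `cntP`, `card_le_cnt`: the number of elements of `UT` whose codes satisfy a predicate;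
* `KA_one` (KF): `U / A1T` has no elementary abelian subgroup of order 16;
* `KW_one` (KW₁): `|{u : [A1T, u] ≤ ⟨z⟩}| ≤ 2 ^ 8`;
* `mem_UT_of_A1T`, `mem_AA1T_of`: the elements that centralise `A1T` modulo `z`.
-/

set_option autoImplicit false
set_option Elab.async false

namespace Cfsg.Agent.TitsK

open Cfsg.Lie Cfsg.Agent.ChevalleyStructure.TwF4.Tables
open Cfsg.Agent.FourTwo.Base hiding bar bar_lt
open Cfsg.Agent.FourTwo.BN Cfsg.Agent.FourTwo.Comm Cfsg.Agent.FourTwo.Classes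
open Cfsg.Agent.FourTwo.UCode (mulU invU conjU lets colW colF force force_eq mem_lets wel_lets wel_mem)

/-! ### counting -/

theorem countP_lf (p : ℕ → Bool) (gs : List (ℕ × Bool)) (e : ℕ) (b : Bool) :
    ((lf gs e b).filter fun q => p q.1).length = cntP p gs e := by
  induction gs generalizing e b with
  | nil =>
    rw [lf, cntP_nil]
    cases h : p e <;> simp [List.filter, h]
  | cons g gs ih =>
    rw [lf, List.filter_append, List.length_append, ih, ih, cntP_cons]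

/-- a subgroup of `UT` all whose codes satisfy `p` -/
theorem card_le_cnt {B : Subgroup LL} (hB : B ≤ UT) {p : ℕ → Bool}
    (h : ∀ e, e < 2 ^ 24 → (ec e ∈ TT ↔ parB e = false) → ec e ∈ B → p e = true) :
    Nat.card ↥B ≤ cntP p gens12 0 := by
  rw [← countP_lf p gens12 0 false]
  have h1 := card_le_of_codes (B := B) (L := ((lf gens12 0 false).filter fun q => p q.1).map Prod.fst) ?_
  · rwa [List.length_map] at h1
  · intro b hb
    obtain ⟨q, hq, rfl⟩ := exists_leaf (hB hb)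
    refine ⟨q.1, ?_, rfl⟩
    rw [List.mem_map]
    refine ⟨q, ?_, rfl⟩
    rw [List.mem_filter]
    have h2 := leaf_par q hq
    refine ⟨hq, h q.1 h2.2 ?_ hb⟩
    rw [h2.1]
    exact (leaf_mem q hq).2

/-! ### (KF) -/

/-- **(KF)** a subgroup `B` of `ST` all whose squares lie in `A1T` has order less than `2 ^ 9` -/
theorem KA_one {B : Subgroup LL} (hB : B ≤ UT ⊓ TT) (hsq : ∀ a ∈ B, a * a ∈ A1T) : Nat.card ↥B < 2 ^ 9 := by
  classical
  by_contra hc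
  rw [not_lt] at hc
  -- the list of codes
  set L := ((lf gens12 0 false).filter fun q => pKA q.1).map Prod.fst with hL
  have hlen : L.length = 512 := by
    rw [hL, List.length_map, countP_lf, cnt_KA]
  have hp : ∀ e, e < 2 ^ 24 → (ec e ∈ TT ↔ parB e = false) → ec e ∈ B → pKA e = true := by
    intro e he hpar heB
    unfold pKA
    rw [hpar.1 (hB heB).2, cond_false]
    obtain ⟨f, hf, h1⟩ := mem_A1T.1 (hsq _ heB)
    rw [← ec_mulU] at h1
    rw [ec_inj (mulU_lt he e) (LA1_lt f hf) h1]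
    exact memB_of_mem hf
  have hsub : (B : Set LL) ⊆ (((L.map ec).toFinset : Finset LL) : Set LL) := by
    intro g hg
    obtain ⟨q, hq, rfl⟩ := exists_leaf (hB hg).1
    rw [Finset.mem_coe, List.mem_toFinset, List.mem_map]
    refine ⟨q.1, ?_, rfl⟩
    rw [hL, List.mem_map]
    refine ⟨q, ?_, rfl⟩
    rw [List.mem_filter]
    have h2 := leaf_par q hq
    refine ⟨hq, hp q.1 h2.2 ?_ hg⟩
    rw [h2.1]
    exact (leaf_mem q hq).2
  have hcard : (((L.map ec).toFinset : Finset LL) : Set LL).ncard ≤ (B : Set LL).ncard := by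
    have h2 : Nat.card ↥B = (B : Set LL).ncard := rfl
    rw [← h2, Set.ncard_coe_finset]
    refine (List.toFinset_card_le _).trans ?_
    rw [List.length_map, hlen]
    exact hc
  have heq := Set.eq_of_subset_of_ncard_le hsub hcard (Set.toFinite _)
  -- the codes 80 and 513
  have hmem : ∀ e, ec e ∈ UT → e < 2 ^ 24 → pKA e = true → ec e ∈ B := by
    intro e heU he hpe
    have h1 : ec e ∈ (B : Set LL) := by
      rw [heq, Finset.mem_coe, List.mem_toFinset, List.mem_map]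
      refine ⟨e, ?_, rfl⟩
      obtain ⟨q, hq, h3⟩ := exists_leaf heU
      have h4 := leaf_par q hq
      have h5 := ec_inj he h4.2 h3
      rw [hL, List.mem_map]
      refine ⟨q, ?_, h5.symm⟩
      rw [List.mem_filter]
      exact ⟨hq, by rw [← h5]; exact hpe⟩
    exact h1
  have h80 := hmem 80 ec80 (by norm_num) (by decide +kernel)
  have h513 := hmem 513 ec513 (by norm_num) (by decide +kernel)
  have h6 := hsq _ (B.mul_mem h80 h513)
  rw [← ec_mulU, ← ec_mulU] at h6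
  obtain ⟨f, hf, h7⟩ := mem_A1T.1 h6
  have h8 : (Nat.blt (mulU (mulU 80 513) (mulU 80 513)) 16777216 &&
      !memB (mulU (mulU 80 513) (mulU 80 513)) LA1) = true := by decide +kernel
  rw [Bool.and_eq_true, Nat.blt_eq, Bool.not_eq_true', ← Bool.not_eq_true] at h8
  apply h8.2
  rw [ec_inj h8.1 (LA1_lt f hf) h7]
  exact memB_of_mem hf

/-! ### (KW₁) -/

/-- **(KW₁)** -/
theorem KW_one {B : Subgroup LL} (hB : B ≤ UT)
    (h : ∀ u ∈ B, ∀ a ∈ A1T, a * u * (a⁻¹ * u⁻¹) = 1 ∨ a * u * (a⁻¹ * u⁻¹) = z) : Nat.card ↥B ≤ 2 ^ 8 := by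
  refine (card_le_cnt hB (p := pKW) ?_).trans (by rw [cnt_KW]; norm_num)
  intro e he _ heB
  unfold pKW
  rw [List.all_eq_true]
  intro c hc
  have h4 : ∀ c ∈ [8448, 540672, 2129920, 4259840], c ∈ LA1 ∧ c < 2 ^ 24 := by decide
  have h3 := h _ heB _ (mem_A1T.2 ⟨c, (h4 c hc).1, rfl⟩)
  have hlt : commU c e < 2 ^ 24 := mulU_lt (mulU_lt (h4 c hc).2 e) _
  rw [← ec_commU] at h3
  rw [force_eq, Bool.or_eq_true]
  rcases h3 with h3 | h3
  · left
    rw [← ec_zero] at h3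
    rw [ec_inj hlt (by norm_num) h3]
    rfl
  · right
    rw [ec_inj hlt (by norm_num) h3]
    rfl

/-! ### the elements that centralise `A1T` modulo `z` -/

theorem exists_conj_z1 : ∃ u ∈ UT, u * z1 * u⁻¹ = z * z1 := by
  refine ⟨ec 513, ec513, ?_⟩
  have h : conjU 513 4259840 = 13697024 := by decide +kernel
  rw [z_mul_z1, ← h, ec_conjU]
  rfl

theorem mem_UT_of_z_z1 {g : LL} (hg : g ∈ HT) (h : g * z * g⁻¹ = z) (h1 : g * z1 * g⁻¹ = z1 ∨ g * z1 * g⁻¹ = z1 * z) :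
    g ∈ UT := by
  rcases h1 with h1 | h1
  · exact cent_V_le hg h h1
  · obtain ⟨u, hu, h2⟩ := exists_conj_z1
    have hui := UT.inv_mem hu
    have h3 : u⁻¹ * g ∈ UT := by
      apply cent_V_le (HT.mul_mem hui.2 hg)
      · have e : u⁻¹ * g * z * (u⁻¹ * g)⁻¹ = u⁻¹ * (g * z * g⁻¹) * u⁻¹⁻¹ := by group
        rw [e, h, z_central hui]
      · have e : u⁻¹ * g * z1 * (u⁻¹ * g)⁻¹ = u⁻¹ * (g * z1 * g⁻¹) * u := by group
        rw [e, h1, z1_mul_z, ← z_mul_z1, ← h2]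
        group
    have e : g = u * (u⁻¹ * g) := by group
    rw [e]
    exact UT.mul_mem hu h3

/-- an element of `HT` that centralises `A1T` modulo `z` lies in `UT` -/
theorem mem_UT_of_A1T {g : LL} (hg : g ∈ HT) (h : ∀ a ∈ A1T, g * a * g⁻¹ = a ∨ g * a * g⁻¹ = a * z) : g ∈ UT := by
  have hz : z ∈ A1T := ⟨9437184, by decide, rfl⟩
  have hz1 : z1 ∈ A1T := ⟨4259840, by decide, rfl⟩
  refine mem_UT_of_z_z1 hg ?_ (h z1 hz1)
  rcases h z hz with h1 | h1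
  · exact h1
  · exfalso
    rw [z_sq] at h1
    apply z_ne
    have e : z = g⁻¹ * (g * z * g⁻¹) * g := by group
    rw [e, h1]
    group

/-- an element of `TT` that centralises `A1T` modulo `z` lies in `AA A1T` (of order `2 ^ 6`) -/
theorem mem_AA1T_of {g : LL} (hg : g ∈ TT) (h : ∀ a ∈ A1T, g * a * g⁻¹ = a ∨ g * a * g⁻¹ = a * z) : g ∈ AA1T := by
  refine cent_A1T_mod ⟨mem_UT_of_A1T (TT_le hg) h, hg⟩ fun a ha => ?_
  have haz : a * z = z * a := by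
    have h1 := z_central (A1T_le ha).1
    rw [mul_inv_eq_iff_eq_mul] at h1
    exact h1
  have e : a * g * (a⁻¹ * g⁻¹) = a * (g * a * g⁻¹)⁻¹ := by group
  rcases h a ha with h1 | h1
  · left
    rw [e, h1, mul_inv_cancel]
  · right
    rw [e, h1, haz, mul_inv_rev, z_inv, mul_inv_cancel_left]

end Cfsg.Agent.TitsK

end

-- merged: Cfsg.Agent.TitsK.KtInst
section

/-!
**The K-facts of the Tits group and of `²F₄(2)`**: `ktT : KT ↥TT`, `ktH : KT ↥HT`.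
-/

set_option autoImplicit false
set_option Elab.async false

namespace Cfsg.Agent.TitsK

open Cfsg.Lie Cfsg.Agent.ChevalleyStructure.TwF4.Tables
open Cfsg.Agent.FourTwo.Base hiding bar bar_lt
open Cfsg.Agent.OddHalf.D7Tits.Defs

theorem mem_Pz_iff {y : LL} (hy : y ∈ HT) : y ∈ Pz ↔ y * z = z * y := by
  rw [mem_Pz, mul_inv_eq_iff_eq_mul]
  exact ⟨fun h => h.2, fun h => ⟨hy, h⟩⟩

/-- the facts which hold for both `TT` and `HT` -/
theorem jf_pow_cases (l : ℕ) : (∃ m : ℕ, jf ^ l = z ^ m) ∨ jf ^ l ∉ TT := by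
  obtain ⟨m, rfl | rfl⟩ := l.even_or_odd'
  · left
    refine ⟨m, ?_⟩
    rw [pow_mul, pow_two, jf_sq]
  · right
    intro h
    rw [pow_succ, pow_mul, pow_two, jf_sq] at h
    apply jf_not_mem
    have h1 := TT.mul_mem (TT.inv_mem (TT.pow_mem z_mem_TT m)) h
    rw [inv_mul_cancel_left] at h1
    exact h1

theorem jf_pow_of_mem {g : LL} (hg : g ∈ TT) {l : ℕ} (h : g * jf ^ l ∈ TT) : ∃ m : ℕ, jf ^ l = z ^ m := by
  rcases jf_pow_cases l with h1 | h1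
  · exact h1
  · exfalso
    apply h1
    have h2 := TT.mul_mem (TT.inv_mem hg) h
    rw [inv_mul_cancel_left] at h2
    exact h2

theorem z_pow_mem_QQ (m : ℕ) : z ^ m ∈ QQ := QQ.pow_mem z_mem_QQ m

theorem z_pow_comm {p : LL} (hp : p ∈ Pz) (m : ℕ) : p * z ^ m = z ^ m * p := by
  induction m with
  | zero => rw [pow_zero, mul_one, one_mul]
  | succ m ih =>
    have h := (mem_Pz_iff (Pz_le_HT hp)).1 hp
    rw [pow_succ, ← mul_assoc, ih, mul_assoc, h, mul_assoc]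

theorem Pz_cases_T {p : LL} (hp : p ∈ Pz ⊓ TT) : ∃ e ∈ EE, ∃ k : ℕ, p = e * sf ^ k := by
  obtain ⟨e, he, k, l, h⟩ := Pz_cases hp.1
  have hs := TT.mul_mem (EE_le_TT he) (TT.pow_mem sf_mem_TT k)
  have h1 : e * sf ^ k * jf ^ l ∈ TT := by
    rw [← h]
    exact hp.2
  obtain ⟨m, hm⟩ := jf_pow_of_mem hs h1
  refine ⟨e * z ^ m, EE.mul_mem he (QQ_le_EE (z_pow_mem_QQ m)), k, ?_⟩
  rw [h, hm, mul_assoc, z_pow_comm (Pz.pow_mem sf_mem_Pz k) m, ← mul_assoc]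

theorem UT_cases_T {p : LL} (hp : p ∈ UT ⊓ TT) : ∃ e ∈ QQ, ∃ k : ℕ, p = e * sf ^ k := by
  obtain ⟨e, he, k, l, h⟩ := UT_cases hp.1
  have hs := TT.mul_mem (QQ_le_TT he) (TT.pow_mem sf_mem_TT k)
  have h1 : e * sf ^ k * jf ^ l ∈ TT := by
    rw [← h]
    exact hp.2
  obtain ⟨m, hm⟩ := jf_pow_of_mem hs h1
  refine ⟨e * z ^ m, QQ.mul_mem he (z_pow_mem_QQ m), k, ?_⟩
  rw [h, hm, mul_assoc, z_pow_comm (Pz.pow_mem sf_mem_Pz k) m, ← mul_assoc]

theorem sq_EE_T {p : LL} (hp : p ∈ Pz ⊓ TT) (hpp : p * p ∈ EE) : ∃ e ∈ EE, p = e ∨ p = e * (sf * sf) := by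
  obtain ⟨e, he, l, h⟩ := sq_EE hp.1 hpp
  rcases h with h | h
  · have h1 : e * jf ^ l ∈ TT := by
      rw [← h]
      exact hp.2
    obtain ⟨m, hm⟩ := jf_pow_of_mem (EE_le_TT he) h1
    refine ⟨e * z ^ m, EE.mul_mem he (QQ_le_EE (z_pow_mem_QQ m)), Or.inl ?_⟩
    rw [h, hm]
  · have hs := TT.mul_mem (EE_le_TT he) (TT.mul_mem sf_mem_TT sf_mem_TT)
    have h1 : e * (sf * sf) * jf ^ l ∈ TT := by
      rw [← h]
      exact hp.2
    obtain ⟨m, hm⟩ := jf_pow_of_mem hs h1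
    refine ⟨e * z ^ m, EE.mul_mem he (QQ_le_EE (z_pow_mem_QQ m)), Or.inr ?_⟩
    rw [h, hm, mul_assoc, z_pow_comm (Pz.mul_mem sf_mem_Pz sf_mem_Pz) m, ← mul_assoc]

theorem cent_xf_T {p : LL} (hp : p ∈ Pz ⊓ TT) (h : p * xf = xf * p) : ∃ k l : ℕ, p = xf ^ k * z ^ l := by
  obtain ⟨k, l, m, h1⟩ := cent_xf hp.1 h
  have hs := TT.mul_mem (TT.pow_mem xf_mem_TT k) (TT.pow_mem z_mem_TT l)
  have h2 : xf ^ k * z ^ l * jf ^ m ∈ TT := by
    rw [← h1]
    exact hp.2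
  obtain ⟨n, hn⟩ := jf_pow_of_mem hs h2
  refine ⟨k, l + n, ?_⟩
  rw [h1, hn, mul_assoc, ← pow_add]

theorem cent_AA_T {y : LL} (hy : y ∈ TT) (h : ∀ a ∈ AA, y * a = a * y) : y ∈ AA := by
  rcases cent_AA (TT_le hy) h with h1 | h1
  · exact h1
  · exfalso
    apply jf_not_mem
    have h2 := TT.mul_mem (AA_le_TT h1) (TT.inv_mem hy)
    rw [mul_inv_cancel_right] at h2
    exact h2

theorem cube_aux {G : Type*} [Group G] {y j : G} (h : j * (j * y) = j * y * j) (h4 : j ^ 4 = 1) :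
    y = j * y * j ^ 3 := by
  have h1 : j * y = y * j := by
    have e := congrArg (fun w => j⁻¹ * w) h
    simpa [mul_assoc] using e
  rw [h1, mul_assoc, ← pow_succ', h4, mul_one]

theorem cent_AA_H {y : LL} (hy : y ∈ HT) (h : ∀ a ∈ AA, y * a = a * y) : ∃ a ∈ AA, ∃ l : ℕ, y = a * jf ^ l := by
  rcases cent_AA hy h with h1 | h1
  · exact ⟨y, h1, 0, by rw [pow_zero, mul_one]⟩
  · refine ⟨jf * y, h1, 3, ?_⟩
    have h2 := jf_comm_AA h1
    exact cube_aux (G := LL) (y := y) (j := jf) h2 jf_pow4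

theorem EE_le_closure_T : EE ≤ Subgroup.closure {p | p ∈ Pz ⊓ TT ∧ p ^ 5 = 1} := by
  refine EE_le_closure.trans (Subgroup.closure_mono ?_)
  rintro p ⟨h1, h2⟩
  exact ⟨⟨h1, EE_le_TT (mem_EE_of_pow5 h1 h2)⟩, h2⟩

theorem A1T_conj {a : LL} (ha : a ∈ A1T) : ∃ g ∈ TT, g⁻¹ * a * g ∈ AA := by
  obtain ⟨t, ht, h⟩ := conj_AA (A1T_le ha) (sq_A1T ha)
  refine ⟨t⁻¹, TT.inv_mem ht, ?_⟩
  rw [inv_inv]
  exact h

theorem comm_A1T_aux {a u : LL} (h : a * u * a⁻¹ * u⁻¹ = 1 ∨ a * u * a⁻¹ * u⁻¹ = z) :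
    a * u * (a⁻¹ * u⁻¹) = 1 ∨ a * u * (a⁻¹ * u⁻¹) = z := by
  rw [← mul_assoc]
  exact h

theorem jf_conj_inv {y : LL} (hy : y ∈ HT) : jf⁻¹ * y * jf ∈ HT :=
  HT.mul_mem (HT.mul_mem (HT.inv_mem jf_mem_HT) hy) jf_mem_HT

theorem jf_conj_inv_T {y : LL} (hy : y ∈ TT) : jf⁻¹ * y * jf ∈ TT := by
  have h := TT_conj (HT.inv_mem jf_mem_HT) hy
  rw [inv_inv] at h
  exact h

theorem ST_isPGroup : IsPGroup 2 ↥(UT ⊓ TT : Subgroup LL) := isPGroup_UT.to_le inf_le_left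

theorem sf_conj' : sf⁻¹ * xf * sf = xf * xf := by
  rw [sf_conj, pow_two]

theorem KA' {a : LL} (ha : a ∈ AA) (h1 : rf * a * (rf * a) = rf * rf)
    (h2 : ∀ k : ℕ, rf * a * (xf ^ k * (rf * a) * (xf ^ k)⁻¹) * (rf * a)⁻¹ * (xf ^ k * (rf * a) * (xf ^ k)⁻¹)⁻¹ =
      rf * (xf ^ k * rf * (xf ^ k)⁻¹) * rf⁻¹ * (xf ^ k * rf * (xf ^ k)⁻¹)⁻¹)
    (h3 : rf * a * (xf * (rf * a) * xf⁻¹) * (xf ^ 2 * (rf * a) * (xf ^ 2)⁻¹) *
      (xf ^ 3 * (rf * a) * (xf ^ 3)⁻¹) * (xf ^ 4 * (rf * a) * (xf ^ 4)⁻¹) =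
      rf * (xf * rf * xf⁻¹) * (xf ^ 2 * rf * (xf ^ 2)⁻¹) * (xf ^ 3 * rf * (xf ^ 3)⁻¹) * (xf ^ 4 * rf * (xf ^ 4)⁻¹)) :
    a = 1 ∨ a = ajf ∨ a = awf ∨ a = ajf * awf := by
  refine KA ha h1 (fun k => ?_) h3
  have h4 := h2 k
  rw [mul_assoc (rf * a * (xf ^ k * (rf * a) * (xf ^ k)⁻¹)) (rf * a)⁻¹,
    mul_assoc (rf * (xf ^ k * rf * (xf ^ k)⁻¹)) rf⁻¹] at h4
  exact h4

theorem tau_jf : jf * jf * jf⁻¹ = jf := by rw [mul_inv_cancel_right]

/-- the K-facts of the Tits group in `F₄(2)` -/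
noncomputable def kgT : KG (G := LL) TT where
  z := z
  x := xf
  s := sf
  j := 1
  q := qf
  r := rf
  aj := ajf
  aw := awf
  t := jf
  U := UT ⊓ TT
  P := Pz ⊓ TT
  Q := QQ
  A := AA
  E := EE
  A₁ := A1T
  fin := inferInstance
  P_le := inf_le_right
  t_conj := fun y hy => TT_conj jf_mem_HT hy
  t_conj' := fun y hy => jf_conj_inv_T hy
  zz := z_sq
  z1 := z_ne
  mem_P := fun y hy => by
    rw [Subgroup.mem_inf, mem_Pz_iff (TT_le hy)]
    exact ⟨fun h => h.1, fun h => ⟨h, hy⟩⟩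
  z_A := z_mem_AA
  A_le_Q := AA_le_QQ
  Q_le_E := QQ_le_EE
  E_le_P := le_inf EE_le_Pz EE_le_TT
  Q_le_U := le_inf QQ_le_UT QQ_le_TT
  U_le_P := inf_le_inf_right _ UT_le_Pz
  x_E := xf_mem_EE
  s_U := ⟨sf_mem, sf_mem_TT⟩
  j_U := Subgroup.one_mem _
  r_Q := rf_mem
  q_A := qf_mem
  card_A := card_AA
  card_Q := card_QQ
  sq_A := fun _ ha => AA_sq ha
  x5 := xf_pow5
  x1 := xf_ne
  s4 := sf_pow4
  x_s := sf_conj'
  j_or := Or.inl rfl
  nor_A := fun _ hp _ ha => Pz_conj_AA hp.1 ha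
  nor_Q := fun _ hp _ ha => Pz_conj_QQ hp.1 ha
  nor_E := fun _ hp _ ha => Pz_conj_EE hp.1 ha
  E_cases := fun _ he => EE_cases he
  P_cases := fun p hp => by
    obtain ⟨e, he, k, h⟩ := Pz_cases_T hp
    exact ⟨e, he, k, 0, by rw [pow_zero, mul_one]; exact h⟩
  U_cases := fun p hp => by
    obtain ⟨e, he, k, h⟩ := UT_cases_T hp
    exact ⟨e, he, k, 0, by rw [pow_zero, mul_one]; exact h⟩
  sq_E := fun p hp hpp => by
    obtain ⟨e, he, h⟩ := sq_EE_T hp hpp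
    exact ⟨e, he, 0, by rw [pow_zero, mul_one, mul_one]; exact h⟩
  E_mem := fun _ hp h => mem_EE_of_pow5 hp.1 h
  E_le := EE_le_closure_T
  Q_mem := fun _ he h => mem_QQ_of_pow4 he h
  Q_pow := fun _ he => QQ_pow4 he
  comm_Q := comm_QQ
  E_gen := EE_gen
  syl5 := fun _ hg h5 _ => syl5 hg h5
  cent_x := fun p hp h => by
    obtain ⟨k, l, h1⟩ := cent_xf_T hp h
    exact ⟨k, l, 0, by rw [pow_zero, mul_one]; exact h1⟩
  cent_A_x := fun _ ha h => cent_AA_xf ha h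
  cent_Q := fun _ hy h => cent_QQ (TT_le hy) h
  cent_A := fun y hy h => ⟨y, cent_AA_T hy h, 0, by rw [pow_zero, mul_one]⟩
  norm_A := fun y hy h => ⟨norm_AA (TT_le hy) h, hy⟩
  tx := tau_xf
  ts := tau_sf
  tj := by rw [mul_one, mul_inv_cancel]
  tA := fun _ ha => tau_AA ha
  tQ := fun _ ha => tau_QQ ha
  tt := jf_sq
  tr := tau_rf
  aj_A := ajf_mem
  aw_A := awf_mem
  KA := fun _ ha h1 h2 h3 => KA' ha h1 h2 h3
  pr_A := pr_mem
  xr := fun _ h => xr h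
  irr_A := fun _ hz hB hx hb => irr_AA hz hB hx hb
  irr_Q := fun _ hA hB hx hb => irr_QQ hA hB hx hb
  KS := KS
  KW := fun _ ha => KW ha
  q_x := qf_conj_xf
  q_s := qf_conj_sf
  q_prod := qf_prod
  A_gen := AA_gen
  q_Q := fun _ hu k => qf_conj_QQ hu k
  Q_ker := fun _ hu h => QQ_ker hu h
  r0 := rf_q0
  r1 := rf_q1
  r2 := rf_q2
  r3 := rf_q3
  r4 := rf_q4
  pt := pt
  pt' := pt'
  sym := fun _ hg h => sym (TT_le hg) h
  line := line
  U_p := ST_isPGroup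
  U_odd := odd_ST
  A₁_le := A1T_le_QQ
  A₁_ne := A1T_ne
  A₁_card := card_A1T
  A₁_sq := fun _ ha => sq_A1T ha
  A₁_nor := fun _ hu _ ha => UT_conj_A1T hu.1 ha
  cent_A₁ := fun _ hy h => cent_A1T (TT_le hy.2) h
  A₁_conj := fun _ ha _ => A1T_conj ha
  K2 := fun _ hB hsq hn hc => two_normal (hB.trans inf_le_left) hsq hn hc
  KF := fun _ _ hB hsq => KA_one hB hsq
  KW₁ := fun _ hB h => KW_one (hB.trans inf_le_left) fun u hu a ha => comm_A1T_aux (h u hu a ha)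
  K3 := fun _ hB hsq => card_elem (hB.trans TT_le) hsq
  K4 := fun _ hy h => ⟨norm_ST (TT_le hy) fun s hs => (h s hs).1, hy⟩
  cent_U := fun _ hy h => cent_ST (TT_le hy) h
  pts := fun _ hg h => pts (TT_le hg) h

/-- the K-facts of `²F₄(2)` in `F₄(2)` -/
noncomputable def kgH : KG (G := LL) HT where
  z := z
  x := xf
  s := sf
  j := jf
  q := qf
  r := rf
  aj := ajf
  aw := awf
  t := jf
  U := UT
  P := Pz
  Q := QQ
  A := AA
  E := EE
  A₁ := A1T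
  fin := inferInstance
  P_le := fun _ h => Pz_le_HT h
  t_conj := fun y hy => HT.mul_mem (HT.mul_mem jf_mem_HT hy) (HT.inv_mem jf_mem_HT)
  t_conj' := fun y hy => jf_conj_inv hy
  zz := z_sq
  z1 := z_ne
  mem_P := fun y hy => mem_Pz_iff hy
  z_A := z_mem_AA
  A_le_Q := AA_le_QQ
  Q_le_E := QQ_le_EE
  E_le_P := EE_le_Pz
  Q_le_U := QQ_le_UT
  U_le_P := UT_le_Pz
  x_E := xf_mem_EE
  s_U := sf_mem
  j_U := jf_mem
  r_Q := rf_mem
  q_A := qf_mem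
  card_A := card_AA
  card_Q := card_QQ
  sq_A := fun _ ha => AA_sq ha
  x5 := xf_pow5
  x1 := xf_ne
  s4 := sf_pow4
  x_s := sf_conj'
  j_or := Or.inr ⟨jf_sq, rfl⟩
  nor_A := fun _ hp _ ha => Pz_conj_AA hp ha
  nor_Q := fun _ hp _ ha => Pz_conj_QQ hp ha
  nor_E := fun _ hp _ ha => Pz_conj_EE hp ha
  E_cases := fun _ he => EE_cases he
  P_cases := fun _ hp => Pz_cases hp
  U_cases := fun _ hp => UT_cases hp
  sq_E := fun _ hp hpp => sq_EE hp hpp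
  E_mem := fun _ hp h => mem_EE_of_pow5 hp h
  E_le := EE_le_closure
  Q_mem := fun _ he h => mem_QQ_of_pow4 he h
  Q_pow := fun _ he => QQ_pow4 he
  comm_Q := comm_QQ
  E_gen := EE_gen
  syl5 := fun _ hg h5 _ => syl5 hg h5
  cent_x := fun _ hp h => cent_xf hp h
  cent_A_x := fun _ ha h => cent_AA_xf ha h
  cent_Q := fun _ hy h => cent_QQ hy h
  cent_A := fun _ hy h => cent_AA_H hy h
  norm_A := fun _ hy h => norm_AA hy h
  tx := tau_xf
  ts := tau_sf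
  tj := tau_jf
  tA := fun _ ha => tau_AA ha
  tQ := fun _ ha => tau_QQ ha
  tt := jf_sq
  tr := tau_rf
  aj_A := ajf_mem
  aw_A := awf_mem
  KA := kgT.KA
  pr_A := pr_mem
  xr := kgT.xr
  irr_A := kgT.irr_A
  irr_Q := kgT.irr_Q
  KS := KS
  KW := kgT.KW
  q_x := qf_conj_xf
  q_s := qf_conj_sf
  q_prod := qf_prod
  A_gen := AA_gen
  q_Q := fun _ hu k => qf_conj_QQ hu k
  Q_ker := fun _ hu h => QQ_ker hu h
  r0 := rf_q0
  r1 := rf_q1
  r2 := rf_q2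
  r3 := rf_q3
  r4 := rf_q4
  pt := fun k => by
    obtain ⟨g, hg, h⟩ := pt k
    exact ⟨g, TT_le hg, h⟩
  pt' := fun k => by
    obtain ⟨g, hg, h⟩ := pt' k
    exact ⟨g, TT_le hg, h⟩
  sym := fun _ hg h => sym hg h
  line := by
    obtain ⟨g, hg, h⟩ := line
    exact ⟨g, TT_le hg, h⟩
  U_p := isPGroup_UT
  U_odd := odd_UT
  A₁_le := A1T_le_QQ
  A₁_ne := A1T_ne
  A₁_card := card_A1T
  A₁_sq := fun _ ha => sq_A1T ha
  A₁_nor := fun _ hu _ ha => UT_conj_A1T hu ha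
  cent_A₁ := fun _ hy h => cent_A1T hy.2 h
  A₁_conj := fun _ ha _ => by
    obtain ⟨g, hg, h⟩ := A1T_conj ha
    exact ⟨g, TT_le hg, h⟩
  K2 := fun _ hB hsq hn hc => two_normal hB hsq (fun u hu => hn u hu.1) hc
  KF := fun h => by
    exfalso
    apply jf_not_mem
    rw [h]
    exact TT.one_mem
  KW₁ := fun _ hB h => KW_one hB fun u hu a ha => comm_A1T_aux (h u hu a ha)
  K3 := fun _ hB hsq => card_elem hB hsq
  K4 := fun _ hy h => norm_ST hy fun s hs => h s hs.1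
  cent_U := fun _ hy h => cent_ST hy fun s hs => h s hs.1
  pts := fun _ hg h => pts hg h

/-- **the K-facts of the Tits group** -/
noncomputable def ktT : KT ↥TT := kgT.kt

/-- **the K-facts of `²F₄(2)`** -/
noncomputable def ktH : KT ↥HT := kgH.kt

end Cfsg.Agent.TitsK

end

-- merged: Cfsg.Agent.TitsK.PairInst
section

/-!
The hypotheses `PosOf.Pair` for `ktT`, `ktH`: `pair`, and the position in the group `G` for `K` of Tits type: `pos0`.
-/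

set_option autoImplicit false

namespace Cfsg.Agent.TitsK

open Cfsg.Agent.OddHalf.D7Tits Cfsg.Agent.OddHalf.D7Tits.Defs
open Cfsg.Agent.FourTwo.Base hiding bar bar_lt

/-- `ktT`, on `tdata` -/
noncomputable def ktTD : KT ↥tdata.T := ktT

/-- `ktH`, on `tdata` -/
noncomputable def ktHD : KT ↥tdata.H := ktH

theorem ktTD_j : ktTD.j = 1 := rfl

theorem coe_z_T : ((ktTD.z : ↥tdata.T) : LL) = z := rfl
theorem coe_z_H : ((ktHD.z : ↥tdata.H) : LL) = z := rfl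
theorem coe_j_H : ((ktHD.j : ↥tdata.H) : LL) = jf := rfl

theorem ktHD_j : ktHD.j * ktHD.j = ktHD.z := by
  apply Subtype.ext
  exact jf_sq

theorem ktHD_jT : ((ktHD.j : ↥tdata.H) : LL) ∉ tdata.T := jf_not_mem

theorem ktHD_z : ((ktHD.z : ↥tdata.H) : LL) = ((ktTD.z : ↥tdata.T) : LL) := coe_z_H.trans coe_z_T.symm

theorem ktHD_E : ∀ e ∈ ktHD.E, ((e : ↥tdata.H) : LL) ∈ tdata.T := fun _ he => EE_le_TT he

theorem ktHD_s : ((ktHD.s : ↥tdata.H) : LL) ∈ tdata.T := sf_mem_TT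

/-- the compatibility of `ktT`, `ktH` -/
theorem pair : PosOf.Pair tdata ktTD ktHD where
  jC := ktTD_j
  jO := ktHD_j
  jT := ktHD_jT
  zz := ktHD_z
  EK := ktHD_E
  sK := ktHD_s

/-- groups of Tits type -/
theorem nonempty_equiv {X : Type*} [Group X] (h : Cfsg.Lie.IsoTits X) : Nonempty (X ≃* ↥tdata.T) := by
  obtain ⟨e⟩ := h
  obtain ⟨e'⟩ := exists_equiv
  exact ⟨e.trans e'⟩

/-- `Pos0` from an isomorphism with the Tits group -/
theorem pos0_abs {G' : Type} [Group G'] [Finite G'] (D : TData G') (KC : KT ↥D.T) (KO : KT ↥D.H)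
    (H : PosOf.Pair D KC KO) {G : Type*} [Group G] {K : Subgroup G} (C : Cfsg.Agent.OddHalf.Iface.Ctx G)
    (S : Cfsg.Agent.OddHalf.Iface.Std G K) (hcyc : Cfsg.Agent.OddHalf.Iface.Cyc K) (h : Nonempty (↥K ≃* ↥D.T)) :
    (∃ (i₀ : ↥(⊤ : Subgroup ↥D.T) →* G) (t : G), Pos0 KC ⊤ i₀ t 1) ∨
      ∃ (i₀ : ↥(D.T.subgroupOf D.H) →* G) (t f : G), Pos0 KO (D.T.subgroupOf D.H) i₀ t f := by
  obtain ⟨e⟩ := h
  exact PosOf.pos0_of C S hcyc D KC KO H e

/-- **`Pos0` for `K` of Tits type** -/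
theorem pos0 {G : Type*} [Group G] {K : Subgroup G} (C : Cfsg.Agent.OddHalf.Iface.Ctx G)
    (S : Cfsg.Agent.OddHalf.Iface.Std G K) (hcyc : Cfsg.Agent.OddHalf.Iface.Cyc K) (h : Cfsg.Lie.IsoTits ↥K) :
    (∃ (i₀ : ↥(⊤ : Subgroup ↥tdata.T) →* G) (t : G), Pos0 ktTD ⊤ i₀ t 1) ∨
      ∃ (i₀ : ↥(tdata.T.subgroupOf tdata.H) →* G) (t f : G), Pos0 ktHD (tdata.T.subgroupOf tdata.H) i₀ t f :=
  pos0_abs tdata ktTD ktHD pair C S hcyc (nonempty_equiv h)

end Cfsg.Agent.TitsK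

end
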