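import Cfsg.Agent.TitsK.ParC
import Cfsg.Agent.TitsK.KAbs
import Cfsg.Agent.TitsK.KtChkA
import Cfsg.Agent.TitsK.KtChkB
import Cfsg.Agent.TitsK.KtChkC
import Mathlib
import Cfsg.Agent.OddHalf.D7Tits.WDefs

-- merged: Cfsg.Agent.TitsK.KtWA
section

/-!
# K-facts for type W (helper868's list `KTW`), enumerations (helper795)

* `dst`: the number of different entries of a list; `mapF`; `five_of_codes`;
* `F1_codes`, `F2_codes`, `F3_codes`: five different values;
* `orb_spec`: the `C_HT(z)`-orbit of `q₀ q₄` in `AA`.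
-/

set_option autoImplicit false
set_option Elab.async false

namespace Cfsg.Agent.TitsK

open Cfsg.Lie Cfsg.Agent.ChevalleyStructure.TwF4.Tables
open Cfsg.Agent.FourTwo.Base hiding bar bar_lt
open Cfsg.Agent.FourTwo.BN Cfsg.Agent.FourTwo.Comm Cfsg.Agent.FourTwo.Classes
open Cfsg.Agent.FourTwo.UCode (mulU invU conjU lets colW colF force force_eq mem_lets wel_lets wel_mem)

/-! ### different entries -/

theorem dst_le (l : List ℕ) : dst l ≤ l.toFinset.card := by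
  induction l with
  | nil => exact le_rfl
  | cons a l ih =>
    rw [dst_cons, List.toFinset_cons]
    cases h : memB a l
    · rw [cond_false]
      by_cases ha : a ∈ l
      · exfalso
        have h1 : memB a l = true := by
          clear ih h
          induction l with
          | nil => exact absurd ha (by simp)
          | cons b l ih =>
            show cond (Nat.beq a b) true (memB a l) = true
            rcases List.mem_cons.1 ha with rfl | h1
            · rw [Nat.beq_refl, cond_true]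
            · rw [ih h1]
              cases Nat.beq a b <;> rfl
        rw [h] at h1
        exact absurd h1 (by decide)
      · rw [Finset.card_insert_of_notMem (by rwa [List.mem_toFinset])]
        exact Nat.succ_le_succ ih
    · rw [cond_true]
      exact ih.trans (Finset.card_le_card (Finset.subset_insert _ _))

theorem mapF_eq {α : Type} (f : α → ℕ) (l : List α) (k : List ℕ → Bool) : mapF f l k = k ((l.map f).reverse) := by
  have key : ∀ (l : List α) (acc : List ℕ),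
      List.rec (motive := fun _ => List ℕ → Bool) (fun acc => k acc)
        (fun a _ ih acc => force (f a) fun v => ih (v :: acc)) l acc = k ((l.map f).reverse ++ acc) := by
    intro l
    induction l with
    | nil => intro acc; simp
    | cons a l ih =>
      intro acc
      show force (f a) (fun v => _) = _
      rw [force_eq, ih, List.map_cons, List.reverse_cons, List.append_assoc]
      rfl
  have h := key l []
  rw [List.append_nil] at h
  exact h

theorem five_of_codes {Y : Type*} [DecidableEq Y] (l : List Y) (φ : Y → LL) (C : List ℕ) (h : l.map φ = C.map ec)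
    (hC : ∀ c ∈ C, c < 2 ^ 24) (h5 : 5 ≤ dst C) : 5 ≤ l.toFinset.card := by
  classical
  have h1 : ((C.map ec).toFinset).card = C.toFinset.card := by
    have e : (C.map ec).toFinset = C.toFinset.image ec := by
      ext g
      simp [List.mem_toFinset]
    rw [e]
    apply Finset.card_image_of_injOn
    intro a ha b hb hab
    rw [Finset.mem_coe, List.mem_toFinset] at ha hb
    exact ec_inj (hC a ha) (hC b hb) hab
  have h2 : ((l.map φ).toFinset).card ≤ l.toFinset.card := by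
    have e : (l.map φ).toFinset = l.toFinset.image φ := by
      ext g
      simp [List.mem_toFinset]
    rw [e]
    exact Finset.card_image_le
  rw [h, h1] at h2
  exact (h5.trans (dst_le C)).trans h2

theorem rev_map_aux {α β : Type*} (l : List α) (f : α → β) (g : α → ℕ) (e : ℕ → β) (h : ∀ p ∈ l, f p = e (g p)) :
    (l.map f).reverse = ((l.map g).reverse).map e := by
  rw [List.map_reverse, List.map_map]
  congr 1
  exact List.map_congr_left h

/-! ### (F1) -/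

/-- words for the elements of `LF1` -/
def WF1 : List (List ℕ) := [[], [8448, 540672, 2129920, 4259840, 9437184], [1459236, 8448, 266240, 540672, 2129920],
  [1459236, 266240, 4259840], [1459236, 266240, 9437184]]

theorem LF1_words : (LF1.all fun p => WF1.any fun w => Nat.beq (pwd w) p.2 && w.all (gQ.map Prod.fst).contains) = true := by
  decide +kernel

theorem LF1_inv : (LF1.all fun p => Nat.beq (mulU p.1 p.2) 0 && (Nat.beq (mulU p.2 4259840) (mulU 4259840 p.2) &&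
    (Nat.blt p.1 16777216 && Nat.blt p.2 16777216))) = true := by decide +kernel

theorem mem_of_words {H : Subgroup LL} {gs : List ℕ} (hg : ∀ c ∈ gs, ec c ∈ H) {W : List (List ℕ)} {e : ℕ}
    (h : (W.any fun w => Nat.beq (pwd w) e && w.all gs.contains) = true) : ec e ∈ H := by
  rw [List.any_eq_true] at h
  obtain ⟨w, -, h1⟩ := h
  rw [Bool.and_eq_true, List.all_eq_true] at h1
  rw [← Nat.eq_of_beq_eq_true h1.1]
  exact pwd_mem fun c hc => hg c (List.contains_iff_mem.1 (h1.2 c hc))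

theorem gQ_fst_mem : ∀ c ∈ gQ.map Prod.fst, ec c ∈ QQ := by
  intro c hc
  rw [List.mem_map] at hc
  obtain ⟨g, hg, rfl⟩ := hc
  exact gQ_mem g hg

theorem g12_fst_mem : ∀ c ∈ gens12.map Prod.fst, ec c ∈ UT := by
  intro c hc
  rw [List.mem_map] at hc
  obtain ⟨g, hg, rfl⟩ := hc
  exact gens_mem g hg

theorem eq_inv_aux2 {G : Type*} [Group G] {a b : G} (h : a * b = 1) : a = b⁻¹ := eq_inv_of_mul_eq_one_left h

theorem ec_inv_of {a b : ℕ} (h : Nat.beq (mulU a b) 0 = true) : ec a = (ec b)⁻¹ := by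
  apply eq_inv_aux2
  rw [← ec_mulU, Nat.eq_of_beq_eq_true h, ec_zero]

theorem LF1_spec : ∀ p ∈ LF1, ec p.2 ∈ QQ ∧ ec p.2 * z1 = z1 * ec p.2 ∧ ec p.1 = (ec p.2)⁻¹ ∧ p.1 < 2 ^ 24 ∧
    p.2 < 2 ^ 24 := by
  intro p hp
  have h1 := LF1_words
  have h2 := LF1_inv
  rw [List.all_eq_true] at h1 h2
  have h3 := h2 p hp
  rw [Bool.and_eq_true, Bool.and_eq_true, Bool.and_eq_true, Nat.blt_eq, Nat.blt_eq] at h3
  refine ⟨mem_of_words gQ_fst_mem (h1 p hp), ?_, ec_inv_of h3.1, h3.2.2.1, h3.2.2.2⟩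
  unfold z1
  rw [← ec_mulU, ← ec_mulU, Nat.eq_of_beq_eq_true h3.2.1]

theorem F1_codes {u : LL} (hu : u ∈ UT) (h : u * z1 ≠ z1 * u) :
    ∃ C : List ℕ, (LF1.map fun p => (ec p.2)⁻¹ * u * ec p.2).reverse = C.map ec ∧ (∀ c ∈ C, c < 2 ^ 24) ∧ 5 ≤ dst C := by
  obtain ⟨e, he, rfl, -, h2⟩ := UT_all chkF1 hu
  have h3 : Nat.beq (mulU e 4259840) (mulU 4259840 e) = false := by
    rw [← Bool.not_eq_true]
    intro h4
    apply h
    unfold z1
    rw [← ec_mulU, ← ec_mulU, Nat.eq_of_beq_eq_true h4]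
  rw [h3, cond_false, mapF_eq, Nat.ble_eq] at h2
  refine ⟨_, ?_, ?_, h2⟩
  · apply rev_map_aux
    intro p hp
    have h5 := (LF1_spec p hp).2.2.1
    show (ec p.2)⁻¹ * ec e * ec p.2 = ec (mulU (mulU p.1 e) p.2)
    rw [ec_mulU, ec_mulU, h5]
  · intro c hc
    rw [List.mem_reverse, List.mem_map] at hc
    obtain ⟨p, hp, rfl⟩ := hc
    exact mulU_lt (mulU_lt (LF1_spec p hp).2.2.2.1 _) _

/-! ### (F2) -/

theorem LF2_lt : ∀ p ∈ LF2, p.1 < 2 ^ 24 := by decide

theorem F2_codes {m : LL} (hm : m ∈ UT) (h : m * z1 = z1 * m) :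
    ∃ C : List ℕ, (LF2.map fun p => ec p.1 * m * ec p.2).reverse = C.map ec ∧ (∀ c ∈ C, c < 2 ^ 24) ∧ 5 ≤ dst C := by
  obtain ⟨e, he, rfl, -, h2⟩ := UT_all chkF2 hm
  have h3 : Nat.beq (mulU e 4259840) (mulU 4259840 e) = true := by
    unfold z1 at h
    rw [← ec_mulU, ← ec_mulU] at h
    rw [ec_inj (mulU_lt he _) (mulU_lt (by norm_num) e) h]
    exact Nat.beq_refl _
  rw [h3, cond_true, mapF_eq, Nat.ble_eq] at h2
  refine ⟨_, ?_, ?_, h2⟩
  · apply rev_map_aux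
    intro p _
    show ec p.1 * ec e * ec p.2 = ec (mulU (mulU p.1 e) p.2)
    rw [ec_mulU, ec_mulU]
  · intro c hc
    rw [List.mem_reverse, List.mem_map] at hc
    obtain ⟨p, hp, rfl⟩ := hc
    exact mulU_lt (mulU_lt (LF2_lt p hp) _) _

/-! ### (F3) -/

/-- words for the elements of `LF3` -/
def WF3 : List (List ℕ) := [[], [74, 263172, 1179680, 4196480, 8448, 540672, 2129920],
  [263172, 80, 1179680, 266240, 9437184], [74, 80, 1179680, 4196480, 266240, 540672, 9437184],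
  [1179680, 4196480, 8448, 540672, 2129920, 4259840, 9437184], [74, 263172, 4196480, 2129920, 4259840],
  [263172, 1179680, 266240, 540672, 4259840]]

theorem LF3_words : (LF3.all fun p => WF3.any fun w => Nat.beq (pwd w) p.2 && w.all (gens12.map Prod.fst).contains) =
    true := by decide +kernel

theorem LF3_inv : (LF3.all fun p => Nat.beq (mulU p.1 p.2) 0 && (Nat.beq (mulU p.2 4259840) (mulU 4259840 p.2) &&
    (Nat.blt p.1 16777216 && Nat.blt p.2 16777216))) = true := by decide +kernel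

theorem LF3_spec : ∀ p ∈ LF3, ec p.2 ∈ UT ∧ ec p.2 * z1 = z1 * ec p.2 ∧ ec p.1 = (ec p.2)⁻¹ ∧ p.1 < 2 ^ 24 ∧
    p.2 < 2 ^ 24 := by
  intro p hp
  have h1 := LF3_words
  have h2 := LF3_inv
  rw [List.all_eq_true] at h1 h2
  have h3 := h2 p hp
  rw [Bool.and_eq_true, Bool.and_eq_true, Bool.and_eq_true, Nat.blt_eq, Nat.blt_eq] at h3
  refine ⟨mem_of_words g12_fst_mem (h1 p hp), ?_, ec_inv_of h3.1, h3.2.2.1, h3.2.2.2⟩
  unfold z1
  rw [← ec_mulU, ← ec_mulU, Nat.eq_of_beq_eq_true h3.2.1]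

theorem F3_codes {m : LL} (hm : m ∈ UT) (h : m * m = 1) : (∃ e ∈ X8, m = ec e) ∨
    ∃ C : List ℕ, (LF3.map fun p => (ec p.2)⁻¹ * m * ec p.2).reverse = C.map ec ∧ (∀ c ∈ C, c < 2 ^ 24) ∧ 5 ≤ dst C := by
  obtain ⟨e, he, rfl, -, h2⟩ := UT_all chkF3 hm
  have h4 : ec (mulU e e) = ec 0 := by rw [ec_mulU, h, ec_zero]
  have h6 : Nat.beq (mulU e e) 0 = true := by rw [ec_inj (mulU_lt he e) (by norm_num) h4]; rfl
  rw [h6, cond_true, Bool.or_eq_true, mapF_eq, Nat.ble_eq] at h2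
  rcases h2 with h2 | h2
  · exact Or.inl ⟨e, memB_spec h2, rfl⟩
  · right
    refine ⟨_, ?_, ?_, h2⟩
    · apply rev_map_aux
      intro p hp
      have h5 := (LF3_spec p hp).2.2.1
      show (ec p.2)⁻¹ * ec e * ec p.2 = ec (mulU (mulU p.1 e) p.2)
      rw [ec_mulU, ec_mulU, h5]
    · intro c hc
      rw [List.mem_reverse, List.mem_map] at hc
      obtain ⟨p, hp, rfl⟩ := hc
      exact mulU_lt (mulU_lt (LF3_spec p hp).2.2.2.1 _) _

/-! ### the orbit of `q₀ q₄` -/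

/-- one step of a table: `(e, k, f)` -/
def stepP (q : ℕ × ℕ × ℕ) : Bool :=
  (Nat.beq q.2.1 1 && (posW [1, 2, 1, 2] q.1 && Nat.beq (reflW [1, 2, 1, 2] q.1) q.2.2)) ||
  ((gens12.map Prod.fst).contains q.2.1 && Nat.beq (conjU q.2.1 q.1) q.2.2)

theorem nb_mem_Pz : nb ∈ Pz := mem_Pz.2 ⟨nb_mem_HT, nb_conj_z⟩

theorem stepP_spec {q : ℕ × ℕ × ℕ} (h : stepP q = true) : ∃ t ∈ Pz, t * ec q.1 * t⁻¹ = ec q.2.2 := by
  unfold stepP at h
  rw [Bool.or_eq_true, Bool.and_eq_true, Bool.and_eq_true, Bool.and_eq_true] at h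
  rcases h with ⟨-, h1, h2⟩ | ⟨h1, h2⟩
  · refine ⟨nb, nb_mem_Pz, ?_⟩
    rw [← Nat.eq_of_beq_eq_true h2]
    exact nw_conj_ec (by decide) h1
  · rw [List.contains_iff_mem] at h1
    refine ⟨ec q.2.1, UT_le_Pz (g12_fst_mem _ h1), ?_⟩
    rw [← Nat.eq_of_beq_eq_true h2, ec_conjU]

/-- check of a table with root `r` -/
def okP (r : ℕ) : List (ℕ × ℕ × ℕ) → Bool
  | [] => true
  | q :: T => okP r T && (stepP q && (Nat.beq q.2.2 r || (T.map Prod.fst).contains q.2.2))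

theorem okP_spec {r : ℕ} {T : List (ℕ × ℕ × ℕ)} (h : okP r T = true) :
    ∀ e ∈ T.map Prod.fst, ∃ t ∈ Pz, t * ec e * t⁻¹ = ec r := by
  induction T with
  | nil => intro e he; simp at he
  | cons q T ih =>
    unfold okP at h
    rw [Bool.and_eq_true, Bool.and_eq_true, Bool.or_eq_true] at h
    obtain ⟨h1, h2, h3⟩ := h
    intro e he
    rw [List.map_cons, List.mem_cons] at he
    rcases he with rfl | he
    · obtain ⟨t, ht, h4⟩ := stepP_spec h2
      rcases h3 with h3 | h3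
      · rw [Nat.eq_of_beq_eq_true h3] at h4
        exact ⟨t, ht, h4⟩
      · rw [List.contains_iff_mem] at h3
        obtain ⟨s, hs, h5⟩ := ih h1 _ h3
        refine ⟨s * t, Pz.mul_mem hs ht, ?_⟩
        rw [← h5, ← h4]
        group
    · exact ih h1 e he

/-- the orbit of `q₀ q₄` under `C_HT(z)` -/
def TP : List (ℕ × ℕ × ℕ) := [(2129920, 74, 6389760), (540672, 80, 4800512), (11567104, 74, 15826944),
  (6389760, 1, 806912), (2396160, 80, 13963264), (9977856, 80, 14237696), (12107776, 80, 16367616),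
  (4800512, 74, 16367616), (15826944, 1, 10244096), (806912, 80, 12374016), (11833344, 80, 4526080),
  (13963264, 513, 4526080), (2670592, 80, 6930432), (14237696, 74, 6930432), (16367616, 513, 6930432),
  (10244096, 80, 2936832), (12374016, 263172, 2936832), (4526080, 74, 2936832), (6930432, 1, 2936832)]

theorem okTP : okP 2936832 TP = true := by decide +kernel

/-- codes of the orbit -/
def O20 : List ℕ := 2936832 :: TP.map Prod.fst

theorem O20_spec : ∀ e ∈ O20, ∃ p ∈ Pz, p⁻¹ * ec 2936832 * p = ec e := by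
  intro e he
  unfold O20 at he
  rw [List.mem_cons] at he
  rcases he with rfl | he
  · exact ⟨1, Pz.one_mem, by group⟩
  · obtain ⟨t, ht, h⟩ := okP_spec okTP e he
    refine ⟨t, ht, ?_⟩
    rw [← h]
    group

theorem A32_orb : (A32.all fun e => Nat.beq e 0 || (Nat.beq e 9437184 || (memB e PT11 || memB e O20))) = true := by
  decide +kernel

/-- the classes of `AA` -/
theorem AA_orb {a : LL} (ha : a ∈ AA) : a = 1 ∨ a = z ∨ (∃ k, a = qf k ∨ a = z * qf k) ∨
    ∃ p ∈ Pz, p⁻¹ * ec 2936832 * p = a := by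
  obtain ⟨e, he, rfl⟩ := mem_AA.1 ha
  have h := A32_orb
  rw [List.all_eq_true] at h
  have h1 := h e he
  rw [Bool.or_eq_true, Bool.or_eq_true, Bool.or_eq_true] at h1
  rcases h1 with h1 | h1 | h1 | h1
  · left
    rw [Nat.eq_of_beq_eq_true h1, ec_zero]
  · right; left
    rw [Nat.eq_of_beq_eq_true h1]
    rfl
  · right
    rcases PT11_spec (memB_spec h1) with h2 | h2
    · exact Or.inl h2
    · exact Or.inr (Or.inl h2)
  · exact Or.inr (Or.inr (Or.inr (O20_spec e (memB_spec h1))))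

theorem q0q4_eq : qf 0 * qf 4 = ec 2936832 := by
  have h : mulU 4259840 7196672 = 2936832 := by decide +kernel
  rw [← h, ec_mulU]
  rfl

end Cfsg.Agent.TitsK

end

-- merged: Cfsg.Agent.OddHalf.D7Tits.WFive
section

/-!
# Five values (helper868)

`H ≤ Q`, `L` a list of elements of `Q`, `c` a function which is constant on the right cosets of `H` (on `L`) and takes
at least five values on `L`: `4 |H| < |Q|`.
-/

set_option autoImplicit false

namespace Cfsg.Agent.OddHalf.D7Tits.WFive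

variable {Y : Type*} [Group Y]

theorem card_mul_le [Finite Y] {Q H : Subgroup Y} (hH : H ≤ Q) {Z : Type*} [DecidableEq Z] (L : List Y)
    (hL : ∀ h ∈ L, h ∈ Q) (c : Y → Z) (hc : ∀ a ∈ L, ∀ b ∈ L, a * b⁻¹ ∈ H → c a = c b) :
    (L.map c).toFinset.card * Nat.card H ≤ Nat.card Q := by
  classical
  have hrep : ∀ v : (L.map c).toFinset, ∃ a ∈ L, c a = v.1 := by
    rintro ⟨v, hv⟩
    rw [List.mem_toFinset, List.mem_map] at hv
    exact hv
  choose rep hrepL hrepc using hrep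
  let f : (L.map c).toFinset × H → Q := fun p => ⟨p.2.1 * rep p.1, Q.mul_mem (hH p.2.2) (hL _ (hrepL p.1))⟩
  have hf : Function.Injective f := by
    rintro ⟨v, h⟩ ⟨v', h'⟩ e
    have e1 : h.1 * rep v = h'.1 * rep v' := congrArg Subtype.val e
    have e2 : rep v * (rep v')⁻¹ = h.1⁻¹ * h'.1 := by
      rw [mul_inv_eq_iff_eq_mul, mul_assoc, ← e1, inv_mul_cancel_left]
    have e3 := hc _ (hrepL v) _ (hrepL v') (by rw [e2]; exact H.mul_mem (H.inv_mem h.2) h'.2)
    rw [hrepc, hrepc] at e3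
    have e4 : v = v' := Subtype.ext e3
    subst e4
    have e5 : h = h' := Subtype.ext (mul_right_cancel e1)
    rw [e5]
  have h1 := Nat.card_le_card_of_injective f hf
  rw [Nat.card_prod, Nat.card_eq_fintype_card, Fintype.card_coe] at h1
  exact h1

theorem four_lt [Finite Y] {Q H : Subgroup Y} (hH : H ≤ Q) {Z : Type*} [DecidableEq Z] (L : List Y)
    (hL : ∀ h ∈ L, h ∈ Q) (c : Y → Z) (hc : ∀ a ∈ L, ∀ b ∈ L, a * b⁻¹ ∈ H → c a = c b)
    (h5 : 5 ≤ (L.map c).toFinset.card) : 4 * Nat.card H < Nat.card Q := by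
  have h1 := card_mul_le hH L hL c hc
  have h2 : 0 < Nat.card H := Nat.card_pos
  nlinarith

/-- for `h⁻¹ u h`, `H` in the centraliser of `u` -/
theorem four_lt_cent [Finite Y] {Q H : Subgroup Y} (hH : H ≤ Q) {u : Y} (hu : ∀ h ∈ H, h * u = u * h) [DecidableEq Y]
    (L : List Y) (hL : ∀ h ∈ L, h ∈ Q) (h5 : 5 ≤ (L.map fun h => h⁻¹ * u * h).toFinset.card) :
    4 * Nat.card H < Nat.card Q := by
  refine four_lt hH L hL _ (fun a _ b _ hab => ?_) h5
  have h1 := hu _ hab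
  calc a⁻¹ * u * a = a⁻¹ * (u * (a * b⁻¹)) * b := by group
    _ = a⁻¹ * (a * b⁻¹ * u) * b := by rw [h1]
    _ = b⁻¹ * u * b := by group

/-- for `h⁻¹ m f(h)` -/
theorem four_lt_twist [Finite Y] {Q H : Subgroup Y} (hH : H ≤ Q) {m : Y} {f : Y → Y}
    (hf : ∀ a ∈ Q, ∀ b ∈ Q, f (a * b) = f a * f b) (hu : ∀ h ∈ H, m * f h * m⁻¹ = h) [DecidableEq Y]
    (L : List Y) (hL : ∀ h ∈ L, h ∈ Q) (h5 : 5 ≤ (L.map fun h => h⁻¹ * m * f h).toFinset.card) :
    4 * Nat.card H < Nat.card Q := by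
  have f1 : f 1 = 1 := by
    have h := hf 1 Q.one_mem 1 Q.one_mem
    rw [mul_one] at h
    exact (mul_eq_left.1 h.symm)
  refine four_lt hH L hL _ (fun a ha b hb hab => ?_) h5
  have h1 := hu _ hab
  have h2 : f (a * b⁻¹) * f b = f a := by
    rw [← hf _ (Q.mul_mem (hL a ha) (Q.inv_mem (hL b hb))) _ (hL b hb), inv_mul_cancel_right]
  calc a⁻¹ * m * f a = a⁻¹ * (m * f (a * b⁻¹) * m⁻¹) * m * f b := by rw [← h2]; group
    _ = a⁻¹ * (a * b⁻¹) * m * f b := by rw [h1]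
    _ = b⁻¹ * m * f b := by group

end Cfsg.Agent.OddHalf.D7Tits.WFive

end

-- merged: Cfsg.Agent.TitsK.KtWB
section

/-!
# K-facts for type W: `KTW K` from the values of `K` (helper795)

* `Vals K φ`: `φ : Y → F₄(2)` is injective with image `HT` and `K` has the values of helper261's instance;
* `ktwOf`: `Vals K φ → KTW K`.
-/

set_option autoImplicit false
set_option Elab.async false
set_option linter.unusedSectionVars false

namespace Cfsg.Agent.TitsK

open Cfsg.Lie Cfsg.Agent.ChevalleyStructure.TwF4.Tables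
open Cfsg.Agent.FourTwo.Base hiding bar bar_lt
open Cfsg.Agent.FourTwo.BN Cfsg.Agent.FourTwo.Comm Cfsg.Agent.FourTwo.Classes
open Cfsg.Agent.FourTwo.UCode (mulU invU conjU lets colW colF force force_eq mem_lets wel_lets wel_mem)
open Cfsg.Agent.OddHalf.D7Tits.Defs Cfsg.Agent.OddHalf.D7Tits.WDefs

universe u

/-! ### conjugation by `ya na` -/

theorem lkE {c e : ℕ} (h : posW [0, 3] c = true) (h2 : conjU 513 (reflW [0, 3] c) = e) :
    ya * na * ec c * (ya * na)⁻¹ = ec e := by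
  have h3 : na * ec c * na⁻¹ = ec (reflW [0, 3] c) := nw_conj_ec (by decide) h
  have e1 : ya * na * ec c * (ya * na)⁻¹ = ya * (na * ec c * na⁻¹) * ya⁻¹ := by group
  rw [e1, h3, ya_eq, ← ec_conjU, h2]

theorem inv_conj_aux {G : Type*} [Group G] {k a b : G} (h : k * a * k⁻¹ = b) : k⁻¹ * b * k = a := by
  rw [← h]
  group

theorem kq_UT (n : ZMod 5) : ya * na * qf n * (ya * na)⁻¹ ∈ UT := by
  have h : ∀ n : ZMod 5, posW [0, 3] (qc n) = true := by decide +kernel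
  have h3 : na * qf n * na⁻¹ = ec (reflW [0, 3] (qc n)) := nw_conj_ec (by decide) (h n)
  have h4 : ec (reflW [0, 3] (qc n)) ∈ UT :=
    ec_mem_UT_of (AA_le_UT (qf_mem n)).2 [0, 3] (by decide) (h n) rfl
  have e1 : ya * na * qf n * (ya * na)⁻¹ = ya * (na * qf n * na⁻¹) * ya⁻¹ := by group
  rw [e1, h3]
  exact UT.mul_mem (UT.mul_mem ya_mem h4) (UT.inv_mem ya_mem)

theorem yana_mem : ya * na ∈ HT := HT.mul_mem ya_mem_HT na_mem_HT

/-! ### conjugation by powers of `xf` -/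

theorem xi_Q8 {e : ℕ} (he : ec e ∈ Q8) : ec (xiE e) ∈ Q8 :=
  xf_conj_Q8' (xf_conj_Q8' (xf_conj_Q8' (xf_conj_Q8' he)))

theorem conj_succ_aux {G : Type*} [Group G] (x a : G) (n : ℕ) :
    (x ^ (n + 1))⁻¹ * a * x ^ (n + 1) = x⁻¹ * ((x ^ n)⁻¹ * a * x ^ n) * x := by
  rw [pow_succ]
  group

theorem xi_pow {e : ℕ} (he : ec e ∈ Q8) : ∀ n : ℕ, (xf ^ n)⁻¹ * ec e * xf ^ n = ec (xiE^[n] e) ∧ ec (xiE^[n] e) ∈ Q8 := by
  intro n
  induction n with
  | zero => exact ⟨by rw [pow_zero, inv_one, one_mul, mul_one]; rfl, he⟩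
  | succ n ih =>
    rw [Function.iterate_succ_apply', conj_succ_aux, ih.1, xi_conj ih.2]
    exact ⟨rfl, xi_Q8 ih.2⟩

/-- codes of the conjugates of `r` -/
def rL : List ℕ := [1463845, 16567428, 5482912, 13495684, 14999173]
/-- codes of the conjugates of `r aw` -/
def rwL : List ℕ := [8537637, 72836, 8563104, 9485700, 8474245]

theorem rL_eq : ((List.range 5).all fun n => Nat.beq (xiE^[n] 1463845) (rL.getD n 0) &&
    Nat.beq (xiE^[n] 8537637) (rwL.getD n 0)) = true := by decide +kernel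

theorem r_Q8 : ec 1463845 ∈ Q8 := QQ_le_Q8 rf_mem

theorem raw_eq : ec 1463845 * ec 9703424 = ec 8537637 := by
  have h : mulU 1463845 9703424 = 8537637 := by decide +kernel
  rw [← h, ec_mulU]

theorem aw_mem : ec 9703424 ∈ AA := ⟨_, by decide, rfl⟩

theorem raw_Q8 : ec 8537637 ∈ Q8 := by
  rw [← raw_eq]
  exact Q8.mul_mem r_Q8 (AA_le_Q8 aw_mem)

theorem r_conj {n : ℕ} (hn : n < 5) : (xf ^ n)⁻¹ * ec 1463845 * xf ^ n = ec (rL.getD n 0) := by
  have h := rL_eq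
  rw [List.all_eq_true] at h
  have h1 := h n (List.mem_range.2 hn)
  rw [Bool.and_eq_true] at h1
  rw [← Nat.eq_of_beq_eq_true h1.1]
  exact (xi_pow r_Q8 n).1

theorem raw_conj {n : ℕ} (hn : n < 5) : (xf ^ n)⁻¹ * (ec 1463845 * ec 9703424) * xf ^ n = ec (rwL.getD n 0) := by
  have h := rL_eq
  rw [List.all_eq_true] at h
  have h1 := h n (List.mem_range.2 hn)
  rw [Bool.and_eq_true] at h1
  rw [raw_eq, ← Nat.eq_of_beq_eq_true h1.2]
  exact (xi_pow raw_Q8 n).1

theorem RK_mem' : ∀ c ∈ rL, ec c ∈ QQ := by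
  have h : ∀ c ∈ rL, c ∈ RK := by decide
  exact fun c hc => RK_mem_QQ c (h c hc)

/-! ### the values -/

/-- `K` has the values of the instance on `²F₄(2)`, `φ : Y → F₄(2)` -/
structure Vals {Y : Type u} [Group Y] (K : KT Y) (φ : Y →* LL) : Prop where
  inj : Function.Injective φ
  sur : ∀ g ∈ HT, ∃ y, φ y = g
  hz : φ K.z = z
  hx : φ K.x = xf
  hs : φ K.s = sf
  hj : φ K.j = jf
  hr : φ K.r = ec 1463845
  haj : φ K.aj = ec 806912
  haw : φ K.aw = ec 9703424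
  hq : ∀ n, φ (K.q n) = qf n
  hU : ∀ y, y ∈ K.U ↔ φ y ∈ UT
  hQ : ∀ y, y ∈ K.Q ↔ φ y ∈ QQ
  hP : ∀ y, y ∈ K.P ↔ φ y ∈ Pz
  hA : ∀ y, y ∈ K.A ↔ φ y ∈ AA

namespace Vals

variable {Y : Type u} [Group Y] {K : KT Y} {φ : Y →* LL} (V : Vals K φ)

include V

theorem jj : K.j * K.j = K.z := V.inj (by rw [map_mul, V.hj, V.hz, jf_sq])

theorem exk : ∃ k : Y, φ k = ya * na := V.sur _ yana_mem

theorem map3 (a b c : Y) : φ (a * b * c⁻¹) = φ a * φ b * (φ c)⁻¹ := by rw [map_mul, map_mul, map_inv]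

theorem map3' (a b c : Y) : φ (a⁻¹ * b * c) = (φ a)⁻¹ * φ b * φ c := by rw [map_mul, map_mul, map_inv]

/-- `k⁻¹ a k` from codes -/
theorem conj_k {k : Y} (hk : φ k = ya * na) {a b : Y} {c e : ℕ} (ha : φ a = ec e) (hb : φ b = ec c)
    (h : (posW [0, 3] c && Nat.beq (conjU 513 (reflW [0, 3] c)) e) = true) : k⁻¹ * a * k = b := by
  rw [Bool.and_eq_true] at h
  apply V.inj
  rw [V.map3', hk, ha, hb]
  exact inv_conj_aux (lkE h.1 (Nat.eq_of_beq_eq_true h.2))

theorem hq0 : φ (K.q 0) = z1 := V.hq 0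

theorem hzq (n : ZMod 5) : φ (K.z * K.q n) = z * qf n := by rw [map_mul, V.hz, V.hq]

theorem r_val {n : ℕ} (hn : n < 5) : φ ((K.x ^ n)⁻¹ * K.r * K.x ^ n) = ec (rL.getD n 0) := by
  rw [V.map3', map_pow, V.hx, V.hr]
  exact r_conj hn

theorem rw_val {n : ℕ} (hn : n < 5) : φ ((K.x ^ n)⁻¹ * (K.r * K.aw) * K.x ^ n) = ec (rwL.getD n 0) := by
  rw [V.map3', map_pow, V.hx, map_mul, V.hr, V.haw]
  exact raw_conj hn

theorem mem_Mm_iff {y : Y} : y ∈ Mm K ↔ φ y ∈ UT ∧ φ y * z1 = z1 * φ y := by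
  rw [mem_Mm, V.hU, ← V.hq0, ← map_mul, ← map_mul]
  exact ⟨fun h => ⟨h.1, by rw [h.2]⟩, fun h => ⟨h.1, V.inj h.2⟩⟩

theorem mem_Qz_iff {y : Y} : y ∈ Qz K ↔ φ y ∈ QQ ∧ φ y * z1 = z1 * φ y := by
  rw [mem_Qz, V.hQ, ← V.hq0, ← map_mul, ← map_mul]
  exact ⟨fun h => ⟨h.1, by rw [h.2]⟩, fun h => ⟨h.1, V.inj h.2⟩⟩

/-- a code with a preimage in `Y` -/
theorem exA {e : ℕ} (he : e ∈ A32) : ∃ a ∈ K.A, φ a = ec e := by
  have h : ec e ∈ AA := ⟨e, he, rfl⟩
  obtain ⟨a, ha⟩ := V.sur (ec e) (AA_le_UT h).2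
  exact ⟨a, (V.hA a).2 (by rw [ha]; exact h), ha⟩

theorem ss_val : φ (K.s * K.s) = ec 9437264 := by
  have h : mulU 1179754 1179754 = 9437264 := by decide +kernel
  rw [map_mul, V.hs, sf_eq, ← ec_mulU, h]

theorem x_conj_Q {n : ℕ} (hn : n < 5) : (K.x ^ n)⁻¹ * K.r * K.x ^ n ∈ K.Q := by
  rw [V.hQ, V.r_val hn]
  apply RK_mem'
  interval_cases n <;> decide

theorem A_le_U {a : Y} (ha : a ∈ K.A) : a ∈ K.U := K.Q_le_U (K.A_le_Q ha)

theorem ss_U : K.s * K.s ∈ K.U := K.U.mul_mem K.s_U K.s_U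

/-- the value of `f` on `a R_m R_n s²` -/
theorem f4 {f : Y → Y} (hf : Psi K f) {a : Y} (ha : a ∈ K.A) {m n : ℕ} (hm : m < 5) (hn : n < 5) :
    f (a * ((K.x ^ m)⁻¹ * K.r * K.x ^ m) * ((K.x ^ n)⁻¹ * K.r * K.x ^ n) * (K.s * K.s)) =
      a * ((K.x ^ m)⁻¹ * (K.r * K.aw) * K.x ^ m) * ((K.x ^ n)⁻¹ * (K.r * K.aw) * K.x ^ n) * (K.s * K.s * K.z) := by
  have h1 := K.Q_le_U (V.x_conj_Q hm)
  have h2 := K.Q_le_U (V.x_conj_Q hn)
  have h3 := V.A_le_U ha
  rw [hf.mul _ (K.U.mul_mem (K.U.mul_mem h3 h1) h2) _ V.ss_U, hf.mul _ (K.U.mul_mem h3 h1) _ h2, hf.mul _ h3 _ h1,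
    hf.fA a ha, hf.fr, hf.fr, hf.fss]

/-- the value of `f` on `a R_n s²` -/
theorem f3 {f : Y → Y} (hf : Psi K f) {a : Y} (ha : a ∈ K.A) {n : ℕ} (hn : n < 5) :
    f (a * ((K.x ^ n)⁻¹ * K.r * K.x ^ n) * (K.s * K.s)) =
      a * ((K.x ^ n)⁻¹ * (K.r * K.aw) * K.x ^ n) * (K.s * K.s * K.z) := by
  have h2 := K.Q_le_U (V.x_conj_Q hn)
  have h3 := V.A_le_U ha
  rw [hf.mul _ (K.U.mul_mem h3 h2) _ V.ss_U, hf.mul _ h3 _ h2, hf.fA a ha, hf.fr, hf.fss]

theorem zc : z = ec 9437184 := rfl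

/-- the fields `k1`, `k4` -/
theorem k_two {k : Y} (hk : φ k = ya * na) {f : Y → Y} (hf : Psi K f) {q b : Y} {qe be ae m n : ℕ}
    (hq : φ q = ec qe) (hb : φ b = ec be) (hae : ae ∈ A32) (hm : m < 5) (hn : n < 5)
    (h1 : (posW [0, 3] qe && Nat.beq (conjU 513 (reflW [0, 3] qe))
      (mulU (mulU (mulU ae (rL.getD m 0)) (rL.getD n 0)) 9437264)) = true)
    (h2 : (posW [0, 3] be && Nat.beq (conjU 513 (reflW [0, 3] be))
      (mulU (mulU (mulU ae (rwL.getD m 0)) (rwL.getD n 0)) (mulU 9437264 9437184))) = true) :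
    k⁻¹ * f (k * q * k⁻¹) * k = b := by
  obtain ⟨a, ha, hae'⟩ := V.exA hae
  rw [Bool.and_eq_true] at h1
  have e1 : k * q * k⁻¹ = a * ((K.x ^ m)⁻¹ * K.r * K.x ^ m) * ((K.x ^ n)⁻¹ * K.r * K.x ^ n) * (K.s * K.s) := by
    apply V.inj
    rw [V.map3, hk, hq, lkE h1.1 (Nat.eq_of_beq_eq_true h1.2), map_mul, map_mul, map_mul, hae', V.r_val hm, V.r_val hn,
      V.ss_val, ← ec_mulU, ← ec_mulU, ← ec_mulU]
  rw [e1, V.f4 hf ha hm hn]
  refine V.conj_k hk ?_ hb h2
  rw [map_mul, map_mul, map_mul, hae', V.rw_val hm, V.rw_val hn, map_mul, V.ss_val, V.hz, V.zc, ← ec_mulU, ← ec_mulU,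
    ← ec_mulU, ← ec_mulU]

/-- the fields `k2`, `k3` -/
theorem k_one {k : Y} (hk : φ k = ya * na) {f : Y → Y} (hf : Psi K f) {q b : Y} {qe be ae n : ℕ}
    (hq : φ q = ec qe) (hb : φ b = ec be) (hae : ae ∈ A32) (hn : n < 5)
    (h1 : (posW [0, 3] qe && Nat.beq (conjU 513 (reflW [0, 3] qe)) (mulU (mulU ae (rL.getD n 0)) 9437264)) = true)
    (h2 : (posW [0, 3] be && Nat.beq (conjU 513 (reflW [0, 3] be))
      (mulU (mulU ae (rwL.getD n 0)) (mulU 9437264 9437184))) = true) :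
    k⁻¹ * f (k * q * k⁻¹) * k = b := by
  obtain ⟨a, ha, hae'⟩ := V.exA hae
  rw [Bool.and_eq_true] at h1
  have e1 : k * q * k⁻¹ = a * ((K.x ^ n)⁻¹ * K.r * K.x ^ n) * (K.s * K.s) := by
    apply V.inj
    rw [V.map3, hk, hq, lkE h1.1 (Nat.eq_of_beq_eq_true h1.2), map_mul, map_mul, hae', V.r_val hn,
      V.ss_val, ← ec_mulU, ← ec_mulU]
  rw [e1, V.f3 hf ha hn]
  refine V.conj_k hk ?_ hb h2
  rw [map_mul, map_mul, hae', V.rw_val hn, map_mul, V.ss_val, V.hz, V.zc, ← ec_mulU, ← ec_mulU, ← ec_mulU]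

theorem hqc (n : ZMod 5) : φ (K.q n) = ec (qc n) := V.hq n

theorem mul_val {a b : Y} {c d e : ℕ} (ha : φ a = ec c) (hb : φ b = ec d) (h : mulU c d = e) : φ (a * b) = ec e := by
  rw [map_mul, ha, hb, ← ec_mulU, h]

theorem conj_val {a b : Y} {c d e : ℕ} (ha : φ a = ec c) (hb : φ b = ec d) (h : conjU c d = e) :
    φ (a * b * a⁻¹) = ec e := by
  rw [V.map3, ha, hb, ← ec_conjU, h]

theorem hsc : φ K.s = ec 1179754 := by rw [V.hs, sf_eq]

theorem hzc : φ K.z = ec 9437184 := V.hz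

/-- `KS₂` -/
theorem KS2 : (K.x ^ 3)⁻¹ * (K.r * K.aw) * K.x ^ 3 * ((K.x ^ 4)⁻¹ * (K.r * K.aw) * K.x ^ 4) * (K.s * K.aw * K.s⁻¹) =
    (K.x ^ 3)⁻¹ * K.r * K.x ^ 3 * ((K.x ^ 4)⁻¹ * K.r * K.x ^ 4) * (K.s * K.aj * K.s⁻¹) := by
  apply V.inj
  have h1 : φ ((K.x ^ 3)⁻¹ * (K.r * K.aw) * K.x ^ 3 * ((K.x ^ 4)⁻¹ * (K.r * K.aw) * K.x ^ 4) *
      (K.s * K.aw * K.s⁻¹)) = ec 13755137 := by
    refine V.mul_val (V.mul_val (V.rw_val (by norm_num)) (V.rw_val (by norm_num)) rfl)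
      (V.conj_val V.hsc V.haw rfl) ?_
    decide +kernel
  have h2 : φ ((K.x ^ 3)⁻¹ * K.r * K.x ^ 3 * ((K.x ^ 4)⁻¹ * K.r * K.x ^ 4) * (K.s * K.aj * K.s⁻¹)) =
      ec 13755137 := by
    refine V.mul_val (V.mul_val (V.r_val (by norm_num)) (V.r_val (by norm_num)) rfl)
      (V.conj_val V.hsc V.haj rfl) ?_
    decide +kernel
  rw [h1, h2]

theorem q04 : φ (K.q 0 * K.q 4) = ec 2936832 := by
  rw [map_mul, V.hq, V.hq, q0q4_eq]

/-- from the orbit in `LL` to the orbit in `Y` -/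
theorem orb {a : Y} (h : ∃ p ∈ Pz, p⁻¹ * ec 2936832 * p = φ a) : ∃ p ∈ K.P, p⁻¹ * (K.q 0 * K.q 4) * p = a := by
  obtain ⟨p, hp, h1⟩ := h
  obtain ⟨p', hp'⟩ := V.sur p (mem_Pz.1 hp).1
  refine ⟨p', (V.hP p').2 (by rw [hp']; exact hp), V.inj ?_⟩
  rw [V.map3', hp', V.q04, h1]

theorem A_cases {a : Y} (ha : a ∈ K.A) : a = 1 ∨ a = K.z ∨ (∃ n, a = K.q n ∨ a = K.z * K.q n) ∨
    ∃ p ∈ K.P, p⁻¹ * (K.q 0 * K.q 4) * p = a := by
  rcases AA_orb ((V.hA a).1 ha) with h | h | ⟨n, h | h⟩ | h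
  · exact Or.inl (V.inj (by rw [h, map_one]))
  · exact Or.inr (Or.inl (V.inj (by rw [h, V.hz])))
  · exact Or.inr (Or.inr (Or.inl ⟨n, Or.inl (V.inj (by rw [h, V.hq]))⟩))
  · exact Or.inr (Or.inr (Or.inl ⟨n, Or.inr (V.inj (by rw [h, V.hzq]))⟩))
  · exact Or.inr (Or.inr (Or.inr (V.orb h)))

/-! ### (F1) -/

theorem F1 (u : Y) (hu : u ∈ K.U) (hM : u ∉ Mm K) (H : Subgroup Y) (hH : H ≤ Qz K) (hc : ∀ h ∈ H, h * u = u * h) :
    4 * Nat.card H < Nat.card (Qz K) := by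
  classical
  have := K.fin
  have hu' : φ u ∈ UT := (V.hU u).1 hu
  have hne : φ u * z1 ≠ z1 * φ u := fun h => hM (V.mem_Mm_iff.2 ⟨hu', h⟩)
  obtain ⟨C, h1, h2, h3⟩ := F1_codes hu' hne
  have hpre : ∀ p ∈ LF1, ∃ y : Y, φ y = ec p.2 := fun p hp => V.sur _ (QQ_le_UT (LF1_spec p hp).1).2
  choose! pre hpre using hpre
  refine Cfsg.Agent.OddHalf.D7Tits.WFive.four_lt_cent hH hc (LF1.map pre) ?_ ?_
  · intro h hh
    rw [List.mem_map] at hh
    obtain ⟨p, hp, rfl⟩ := hh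
    rw [V.mem_Qz_iff, hpre p hp]
    exact ⟨(LF1_spec p hp).1, (LF1_spec p hp).2.1⟩
  · have h5 := five_of_codes (((LF1.map pre).map fun h => h⁻¹ * u * h).reverse) φ C ?_ h2 h3
    · rwa [List.toFinset_reverse] at h5
    · rw [← h1, List.map_reverse, List.map_map, List.map_map]
      refine congrArg List.reverse ?_
      apply List.map_congr_left
      intro p hp
      show φ ((pre p)⁻¹ * u * pre p) = _
      rw [V.map3', hpre p hp]

/-! ### (F2) -/

theorem Qz_of {y : Y} {c : ℕ} (h : φ y = ec c) (hQ : ec c ∈ QQ)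
    (hc : Nat.beq (mulU c 4259840) (mulU 4259840 c) = true) : y ∈ Qz K := by
  rw [V.mem_Qz_iff, h]
  refine ⟨hQ, ?_⟩
  unfold z1
  rw [← ec_mulU, ← ec_mulU, Nat.eq_of_beq_eq_true hc]

theorem twist_val {a fa m : Y} {c c' d : ℕ} (ha : φ a = ec c) (h : Nat.beq (mulU c' c) 0 = true)
    (hfa : φ fa = ec d) : φ (a⁻¹ * m * fa) = ec c' * φ m * ec d := by
  rw [V.map3', ha, hfa, ec_inv_of h]

theorem F2 (f : Y → Y) (hf : Psi K f) (m : Y) (hm : m ∈ Mm K) (H : Subgroup Y) (hH : H ≤ Qz K)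
    (hc : ∀ h ∈ H, m * f h * m⁻¹ = h) : 4 * Nat.card H < Nat.card (Qz K) := by
  classical
  have := K.fin
  have hm' := V.mem_Mm_iff.1 hm
  obtain ⟨C, h1, h2, h3⟩ := F2_codes hm'.1 hm'.2
  have hQU : Qz K ≤ K.U := fun a ha => K.Q_le_U (mem_Qz.1 ha).1
  -- the elements
  obtain ⟨R1, hR1⟩ : ∃ R, R = (K.x ^ 1)⁻¹ * K.r * K.x ^ 1 := ⟨_, rfl⟩
  obtain ⟨R2, hR2⟩ : ∃ R, R = (K.x ^ 2)⁻¹ * K.r * K.x ^ 2 := ⟨_, rfl⟩
  obtain ⟨R3, hR3⟩ : ∃ R, R = (K.x ^ 3)⁻¹ * K.r * K.x ^ 3 := ⟨_, rfl⟩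
  have v1 : φ R1 = ec 16567428 := by rw [hR1]; exact V.r_val (n := 1) (by norm_num)
  have v2 : φ R2 = ec 5482912 := by rw [hR2]; exact V.r_val (n := 2) (by norm_num)
  have v3 : φ R3 = ec 13495684 := by rw [hR3]; exact V.r_val (n := 3) (by norm_num)
  have w1 : φ (f R1) = ec 72836 := by rw [hR1, hf.fr]; exact V.rw_val (n := 1) (by norm_num)
  have w2 : φ (f R2) = ec 8563104 := by rw [hR2, hf.fr]; exact V.rw_val (n := 2) (by norm_num)
  have w3 : φ (f R3) = ec 9485700 := by rw [hR3, hf.fr]; exact V.rw_val (n := 3) (by norm_num)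
  have u1 : R1 ∈ K.U := by rw [hR1]; exact K.Q_le_U (V.x_conj_Q (by norm_num))
  have u2 : R2 ∈ K.U := by rw [hR2]; exact K.Q_le_U (V.x_conj_Q (by norm_num))
  have u3 : R3 ∈ K.U := by rw [hR3]; exact K.Q_le_U (V.x_conj_Q (by norm_num))
  have q1 : ec 16567428 ∈ QQ := RK_mem' _ (by decide)
  have q2 : ec 5482912 ∈ QQ := RK_mem' _ (by decide)
  have q3 : ec 13495684 ∈ QQ := RK_mem' _ (by decide)
  have v12 : φ (R1 * R2) = ec 14656804 := V.mul_val v1 v2 (by decide +kernel)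
  have v13 : φ (R1 * R3) = ec 5583104 := V.mul_val v1 v3 (by decide +kernel)
  have v23 : φ (R2 * R3) = ec 7848996 := V.mul_val v2 v3 (by decide +kernel)
  have w12 : φ (f (R1 * R2)) = ec 14906660 := by rw [hf.mul _ u1 _ u2]; exact V.mul_val w1 w2 (by decide +kernel)
  have w13 : φ (f (R1 * R3)) = ec 7713024 := by rw [hf.mul _ u1 _ u3]; exact V.mul_val w1 w3 (by decide +kernel)
  have w23 : φ (f (R2 * R3)) = ec 15438884 := by rw [hf.mul _ u2 _ u3]; exact V.mul_val w2 w3 (by decide +kernel)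
  have vq : φ (K.q 1) = ec 14503936 := V.hqc 1
  have wq : φ (f (K.q 1)) = ec 14503936 := by rw [hf.fA _ (K.q_A 1)]; exact vq
  have v0 : φ (1 : Y) = ec 0 := by rw [map_one, ec_zero]
  have w0 : φ (f (1 : Y)) = ec 0 := by rw [hf.fA _ K.A.one_mem]; exact v0
  refine Cfsg.Agent.OddHalf.D7Tits.WFive.four_lt_twist hH (m := m) (f := f)
    (fun a ha b hb => hf.mul a (hQU ha) b (hQU hb)) hc [1, R1, R2, R1 * R2, R1 * R3, R2 * R3, K.q 1] ?_ ?_
  · intro h hh
    simp only [List.mem_cons, List.not_mem_nil, or_false] at hh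
    rcases hh with rfl | rfl | rfl | rfl | rfl | rfl | rfl
    · exact Subgroup.one_mem _
    · exact V.Qz_of v1 q1 (by decide +kernel)
    · exact V.Qz_of v2 q2 (by decide +kernel)
    · exact V.Qz_of v12 (by rw [← v12, map_mul, v1, v2]; exact QQ.mul_mem q1 q2) (by decide +kernel)
    · exact V.Qz_of v13 (by rw [← v13, map_mul, v1, v3]; exact QQ.mul_mem q1 q3) (by decide +kernel)
    · exact V.Qz_of v23 (by rw [← v23, map_mul, v2, v3]; exact QQ.mul_mem q2 q3) (by decide +kernel)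
    · exact V.Qz_of vq (by rw [← vq]; exact (V.hQ _).1 (K.A_le_Q (K.q_A 1))) (by decide +kernel)
  · have h5 := five_of_codes (([1, R1, R2, R1 * R2, R1 * R3, R2 * R3, K.q 1].map fun h => h⁻¹ * m * f h).reverse)
      φ C ?_ h2 h3
    · rwa [List.toFinset_reverse] at h5
    · rw [← h1, List.map_reverse, List.map_map]
      refine congrArg List.reverse ?_
      show [φ (1⁻¹ * m * f 1), φ (R1⁻¹ * m * f R1), φ (R2⁻¹ * m * f R2), φ ((R1 * R2)⁻¹ * m * f (R1 * R2)),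
        φ ((R1 * R3)⁻¹ * m * f (R1 * R3)), φ ((R2 * R3)⁻¹ * m * f (R2 * R3)),
        φ ((K.q 1)⁻¹ * m * f (K.q 1))] = [ec 0 * φ m * ec 0, ec 12180612 * φ m * ec 72836,
        ec 14887328 * φ m * ec 8563104, ec 7566628 * φ m * ec 14906660, ec 12923136 * φ m * ec 7713024,
        ec 8098852 * φ m * ec 15438884, ec 14503936 * φ m * ec 14503936]
      rw [V.twist_val (c' := 0) v0 (by decide +kernel) w0, V.twist_val (c' := 12180612) v1 (by decide +kernel) w1,
        V.twist_val (c' := 14887328) v2 (by decide +kernel) w2, V.twist_val (c' := 7566628) v12 (by decide +kernel) w12,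
        V.twist_val (c' := 12923136) v13 (by decide +kernel) w13, V.twist_val (c' := 8098852) v23 (by decide +kernel) w23,
        V.twist_val (c' := 14503936) vq (by decide +kernel) wq]

/-! ### (F3) -/

theorem F3 (m : Y) (hm : m ∈ Mm K) (hmm : m * m = 1) (H : Subgroup Y) (hH : H ≤ Mm K)
    (hc : ∀ h ∈ H, h * m = m * h) (hcard : Nat.card (Mm K) ≤ 4 * Nat.card H) :
    m = 1 ∨ m = K.z ∨ m = K.q 0 ∨ m = K.z * K.q 0 ∨ ∃ p ∈ K.P, p⁻¹ * (K.q 0 * K.q 4) * p = m := by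
  classical
  have := K.fin
  have hm' := V.mem_Mm_iff.1 hm
  rcases F3_codes hm'.1 (by rw [← map_mul, hmm, map_one]) with ⟨e, he, h⟩ | ⟨C, h1, h2, h3⟩
  · have ho : ∀ e ∈ [2129920, 6389760, 11567104, 15826944], φ m = ec e →
        ∃ p ∈ K.P, p⁻¹ * (K.q 0 * K.q 4) * p = m := by
      intro e he h
      apply V.orb
      rw [h]
      refine O20_spec e ?_
      simp only [List.mem_cons, List.not_mem_nil, or_false] at he
      rcases he with rfl | rfl | rfl | rfl <;> decide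
    unfold X8 at he
    simp only [List.mem_cons, List.not_mem_nil, or_false] at he
    rcases he with rfl | rfl | rfl | rfl | rfl | rfl | rfl | rfl
    · exact Or.inl (V.inj (by rw [h, map_one, ec_zero]))
    · exact Or.inr (Or.inl (V.inj (by rw [h, V.hzc])))
    · exact Or.inr (Or.inr (Or.inl (V.inj (by rw [h, V.hq0]; rfl))))
    · refine Or.inr (Or.inr (Or.inr (Or.inl (V.inj ?_))))
      rw [h, V.mul_val (e := 13697024) V.hzc (V.hqc 0) (by decide +kernel)]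
    · exact Or.inr (Or.inr (Or.inr (Or.inr (ho _ (by simp) h))))
    · exact Or.inr (Or.inr (Or.inr (Or.inr (ho _ (by simp) h))))
    · exact Or.inr (Or.inr (Or.inr (Or.inr (ho _ (by simp) h))))
    · exact Or.inr (Or.inr (Or.inr (Or.inr (ho _ (by simp) h))))
  · exfalso
    have hpre : ∀ p ∈ LF3, ∃ y : Y, φ y = ec p.2 := fun p hp => V.sur _ (LF3_spec p hp).1.2
    choose! pre hpre using hpre
    have h4 := Cfsg.Agent.OddHalf.D7Tits.WFive.four_lt_cent hH hc (LF3.map pre) (by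
      intro h hh
      rw [List.mem_map] at hh
      obtain ⟨p, hp, rfl⟩ := hh
      rw [V.mem_Mm_iff, hpre p hp]
      exact ⟨(LF3_spec p hp).1, (LF3_spec p hp).2.1⟩) (by
      have h5 := five_of_codes (((LF3.map pre).map fun h => h⁻¹ * m * h).reverse) φ C (by
        rw [← h1, List.map_reverse, List.map_map, List.map_map]
        refine congrArg List.reverse ?_
        apply List.map_congr_left
        intro p hp
        show φ ((pre p)⁻¹ * m * pre p) = _
        rw [V.map3', hpre p hp]) h2 h3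
      rwa [List.toFinset_reverse] at h5)
    omega

end Vals

/-- **The K-facts for type W.** -/
noncomputable def ktwOf {Y : Type u} [Group Y] {K : KT Y} {φ : Y →* LL} (V : Vals K φ) : KTW K where
  jj := V.jj
  k := Classical.choose V.exk
  kz := V.conj_k (Classical.choose_spec V.exk) V.hzc (V.hqc 0) (by decide +kernel)
  kq := V.conj_k (Classical.choose_spec V.exk) (V.hqc 0)
    (V.mul_val (e := 13697024) V.hzc (V.hqc 0) (by decide +kernel)) (by decide +kernel)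
  kU n := by
    rw [V.hU, V.map3, Classical.choose_spec V.exk, V.hq]
    exact kq_UT n
  k1 f hf := V.k_two (Classical.choose_spec V.exk) hf (V.hqc 1) V.q04 (ae := 2670592) (m := 0) (n := 4) (by decide)
    (by norm_num) (by norm_num) (by decide +kernel) (by decide +kernel)
  k2 f hf := V.k_one (Classical.choose_spec V.exk) hf (V.hqc 2)
    (V.mul_val (e := 2396160) (V.mul_val (e := 13697024) V.hzc (V.hqc 0) (by decide +kernel)) (V.hqc 2)
      (by decide +kernel)) (ae := 2936832) (n := 2) (by decide) (by norm_num) (by decide +kernel) (by decide +kernel)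
  k3 f hf := V.k_one (Classical.choose_spec V.exk) hf (V.hqc 3)
    (V.mul_val (e := 13963264) (V.mul_val (e := 13697024) V.hzc (V.hqc 0) (by decide +kernel)) (V.hqc 3)
      (by decide +kernel)) (ae := 5066752) (n := 2) (by decide) (by norm_num) (by decide +kernel) (by decide +kernel)
  k4 f hf := V.k_two (Classical.choose_spec V.exk) hf (V.hqc 4)
    (V.mul_val (e := 10244096) (V.hqc 0) (V.hqc 1) (by decide +kernel)) (ae := 14237696) (m := 0) (n := 4) (by decide)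
    (by norm_num) (by norm_num) (by decide +kernel) (by decide +kernel)
  KS₂ := V.KS2
  A_cases a ha := V.A_cases ha
  F1 := V.F1
  F2 := V.F2
  F3 := V.F3

end Cfsg.Agent.TitsK

end
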