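import Cfsg.Agent.TitsK.Data
import Cfsg.Agent.MinSimple.VModule
import Cfsg.Agent.PLocal.OffenderStep
import Cfsg.Agent.TitsK.ParC
import Cfsg.Agent.TitsK.Inst

-- merged: Cfsg.Agent.TitsK.OverAbs
section

/-!
# Overgroups of a Sylow 2-subgroup and its opposite, abstract part (helper625)

For the abstract data `TData` of `²F₄(2)` and the Tits group:

* `Over D` : the overgroup fact (the overgroups `R` of `U ⊓ T` in which the conjugates of `z` commute stabilise `z` or `V`)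
  and two facts on the opposite subgroup;
* **`Over.inf_eq_bot`**: `T ≤ L ≤ H`, `A ≤ O₂(R)` for all `U ⊓ L ≤ R < L`; then `A ⊓ R = 1` for all `(U ⊓ L)^w₀ ≤ R < L`.
-/

set_option autoImplicit false

namespace Cfsg.Agent.TitsK

open Subgroup Cfsg Cfsg.Agent.ZN Cfsg.Agent.TitsK.Abs
open Cfsg.Agent.MinSimple.VModule (o2_isPGroup o2_le le_o2 le_normalizer_o2 o2_le_of_sylow)

variable {G : Type*} [Group G]

structure Over (D : TData G) : Prop where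
  ovg : ∀ R ≤ D.H, D.U ⊓ D.T ≤ R → (∀ x ∈ R, ∀ y ∈ R, x * D.z * x⁻¹ * (y * D.z * y⁻¹) = y * D.z * y⁻¹ * (x * D.z * x⁻¹)) →
    (∀ g ∈ R, g * D.z * g⁻¹ = D.z) ∨ (∀ g ∈ R, ∀ v ∈ D.V, g * v * g⁻¹ ∈ D.V)
  oz : ∀ a ∈ D.U, D.w0 * a * D.w0 * D.z * (D.w0 * a * D.w0)⁻¹ = D.z →
    a = 1 ∨ ∃ n ∈ D.T, n * D.z * n⁻¹ = D.z ∧ ∃ k : ℕ, n * a ^ k * n⁻¹ ∉ D.U
  ov : ∀ a ∈ D.U, (∀ v ∈ D.V, D.w0 * a * D.w0 * v * (D.w0 * a * D.w0)⁻¹ ∈ D.V) →
    a = 1 ∨ ∃ n ∈ D.T, (∀ v ∈ D.V, n * v * n⁻¹ ∈ D.V) ∧ n * a * n⁻¹ ∉ D.U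
  nv : ∃ t ∈ D.T, ∃ v ∈ D.V, t * v * t⁻¹ ∉ D.V
  UV : ∀ u ∈ D.U, ∀ v ∈ D.V, u * v * u⁻¹ ∈ D.V

theorem not_dvd_relIndex {U L R : Subgroup G} (h1 : U ≤ R) (h2 : R ≤ L) (h : ¬ 2 ∣ U.relIndex L) :
    ¬ 2 ∣ U.relIndex R := fun h3 => h (h3.trans (Dvd.intro _ (Subgroup.relIndex_mul_relIndex U R L h1 h2)))

namespace Over

variable [Finite G] {D : TData G} (O : Over D)

include O

omit O in
theorem mem_normalizer_of_le {N : Subgroup G} {g : G} (h : ∀ x ∈ N, g * x * g⁻¹ ∈ N) : g ∈ normalizer (N : Set G) := by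
  rw [mem_normalizer_iff]
  intro x
  refine ⟨h x, fun hx => ?_⟩
  have hinj : Function.Injective (fun y : ↥N => (⟨g * y * g⁻¹, h y y.2⟩ : ↥N)) := by
    intro a b hab
    have h1 := congrArg Subtype.val hab
    apply Subtype.ext
    simpa using h1
  obtain ⟨y, hy⟩ := Finite.surjective_of_injective hinj ⟨g * x * g⁻¹, hx⟩
  have h1 : g * (y : G) * g⁻¹ = g * x * g⁻¹ := congrArg Subtype.val hy
  have h2 : (y : G) = x := by simpa using h1
  rw [← h2]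
  exact y.2

/-- **`A` meets the overgroups of the opposite Sylow 2-subgroup trivially.** -/
theorem inf_eq_bot {L A : Subgroup G} (hTL : D.T ≤ L) (hLH : L ≤ D.H) (hodd : ¬ 2 ∣ (D.U ⊓ L).relIndex L)
    (low : ∀ R ≤ L, D.U ⊓ L ≤ R → R ≠ L → A ≤ o2 R) {R : Subgroup G} (hRL : R ≤ L)
    (hopp : ∀ s ∈ D.U ⊓ L, D.w0 * s * D.w0 ∈ R) (hR : R ≠ L) : A ⊓ R = ⊥ := by
  have w2 := D.w0_sq
  have wi : D.w0⁻¹ = D.w0 := by rw [inv_eq_iff_mul_eq_one, w2]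
  have ww : ∀ g : G, D.w0 * (D.w0 * g * D.w0) * D.w0 = g := fun g => by
    have e : D.w0 * (D.w0 * g * D.w0) * D.w0 = (D.w0 * D.w0) * g * (D.w0 * D.w0) := by group
    rw [e, w2, one_mul, mul_one]
  have wL : D.w0 ∈ L := hTL D.w0_mem
  have hp : IsPGroup 2 (D.U ⊓ L : Subgroup G) := D.isPGroup_U.to_le inf_le_left
  have hz : D.z ∈ D.U := D.V_le_U D.z_mem_V
  have hzT : D.z ∈ D.T := D.V_le_T D.z_mem_V
  -- `O₂(R') ≤ U` for `U ⊓ L ≤ R' ≤ L`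
  have hO : ∀ R' ≤ L, D.U ⊓ L ≤ R' → o2 R' ≤ D.U ⊓ L := fun R' h1 h2 =>
    o2_le_of_sylow hp (not_dvd_relIndex h2 h1 hodd)
  set R₁ : Subgroup G := cj D.w0 R with hR₁
  have m1 : ∀ g, g ∈ R₁ ↔ D.w0 * g * D.w0 ∈ R := fun g => by rw [hR₁, mem_cj, wi]
  have h1L : R₁ ≤ L := by
    intro g hg
    have h2 := L.mul_mem (L.mul_mem wL (hRL ((m1 g).1 hg))) wL
    rwa [ww] at h2
  have hU1 : D.U ⊓ L ≤ R₁ := fun s hs => (m1 s).2 (hopp s hs)
  have h1ne : R₁ ≠ L := by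
    intro h
    apply hR
    apply le_antisymm hRL
    intro x hx
    have h2 : D.w0 * x * D.w0 ∈ R₁ := by rw [h]; exact L.mul_mem (L.mul_mem wL hx) wL
    have h3 := (m1 _).1 h2
    rwa [ww] at h3
  rw [eq_bot_iff]
  intro a ha
  rw [mem_bot]
  by_contra hne
  have haO := low R₁ h1L hU1 h1ne ha.1
  have hOne : o2 R₁ ≠ ⊥ := fun h => hne (mem_bot.1 (h ▸ haO))
  have hOU := hO R₁ h1L hU1
  -- `z ∈ O₂(R₁)`
  have : Fact (Nat.Prime 2) := ⟨Nat.prime_two⟩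
  have hzO : D.z ∈ o2 R₁ := by
    have h2 := PLocal.OffenderStep.inf_centralizer_ne_bot (o2 R₁) (D.U ⊓ L) (o2_isPGroup _) hp
      (hU1.trans (le_normalizer_o2 R₁)) hOne
    obtain ⟨⟨x, hx⟩, hx'⟩ := Subgroup.ne_bot_iff_exists_ne_one.1 h2
    have hx1 : x ≠ 1 := fun e => hx' (Subtype.ext e)
    have h3 := D.cent_S x (hOU hx.1).1 fun c hc =>
      (mem_centralizer_iff.1 hx.2 c ⟨hc.1, hTL hc.2⟩).symm
    rcases h3 with h3 | h3
    · exact absurd h3 hx1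
    · rw [← h3]
      exact hx.1
  have hconj : ∀ x ∈ R₁, x * D.z * x⁻¹ ∈ o2 R₁ := fun x hx =>
    (mem_normalizer_iff.1 (le_normalizer_o2 R₁ hx) _).1 hzO
  have hcomm : ∀ x ∈ R₁, ∀ y ∈ R₁, x * D.z * x⁻¹ * (y * D.z * y⁻¹) = y * D.z * y⁻¹ * (x * D.z * x⁻¹) := by
    intro x hx y hy
    have h2 : x⁻¹ * y * D.z * (x⁻¹ * y)⁻¹ ∈ D.U := (hOU (hconj _ (R₁.mul_mem (R₁.inv_mem hx) hy))).1
    have h3 := D.z_central _ h2
    have h4 : x⁻¹ * y * D.z * (x⁻¹ * y)⁻¹ * D.z = D.z * (x⁻¹ * y * D.z * (x⁻¹ * y)⁻¹) := by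
      rw [mul_inv_eq_iff_eq_mul] at h3
      exact h3
    calc x * D.z * x⁻¹ * (y * D.z * y⁻¹) = x * (D.z * (x⁻¹ * y * D.z * (x⁻¹ * y)⁻¹)) * x⁻¹ := by group
      _ = x * (x⁻¹ * y * D.z * (x⁻¹ * y)⁻¹ * D.z) * x⁻¹ := by rw [h4]
      _ = _ := by group
  have haU : a ∈ D.U := (hOU haO).1
  have ha1 : D.w0 * a * D.w0 ∈ R₁ := by
    rw [m1, ww]
    exact ha.2
  have hUT : D.U ⊓ D.T ≤ R₁ := (inf_le_inf_left _ hTL).trans hU1
  rcases O.ovg R₁ (h1L.trans hLH) hUT hcomm with h | h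
  · -- the centraliser of `z`
    rcases O.oz a haU (h _ ha1) with h2 | ⟨n, hn, hnz, k, hk⟩
    · exact hne h2
    · set P : Subgroup G := L ⊓ centralizer {D.z} with hP
      have mP : ∀ g, g ∈ P ↔ g ∈ L ∧ g * D.z * g⁻¹ = D.z := fun g => by
        rw [hP, mem_inf, mem_centralizer_singleton_iff, mul_inv_eq_iff_eq_mul]
      have hPne : P ≠ L := by
        intro h3
        obtain ⟨t, ht, ht'⟩ := D.z_not_central
        exact ht' ((mP t).1 (h3 ▸ hTL ht)).2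
      have hUP : D.U ⊓ L ≤ P := fun s hs => (mP s).2 ⟨hs.2, D.z_central s hs.1⟩
      have haP := low P inf_le_left hUP hPne ha.1
      have h4 := (mem_normalizer_iff.1 (le_normalizer_o2 P ((mP n).2 ⟨hTL hn, hnz⟩)) (a ^ k)).1 ((o2 P).pow_mem haP k)
      exact hk (hO P inf_le_left hUP h4).1
  · rcases O.ov a haU (h _ ha1) with h2 | ⟨n, hn, hnz, hk⟩
    · exact hne h2
    · set P : Subgroup G := L ⊓ normalizer (D.V : Set G) with hP
      have mP : ∀ g, g ∈ L → (∀ v ∈ D.V, g * v * g⁻¹ ∈ D.V) → g ∈ P := fun g h1 h2 =>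
        ⟨h1, mem_normalizer_of_le h2⟩
      have hPne : P ≠ L := by
        intro h3
        obtain ⟨t, ht, v, hv, ht'⟩ := O.nv
        have h4 : t ∈ P := h3 ▸ hTL ht
        exact ht' ((mem_normalizer_iff.1 h4.2 v).1 hv)
      have hUP : D.U ⊓ L ≤ P := fun s hs => mP s hs.2 (O.UV s hs.1)
      have haP := low P inf_le_left hUP hPne ha.1
      have h4 := (mem_normalizer_iff.1 (le_normalizer_o2 P (mP n (hTL hn) hnz)) a).1 haP
      exact hk (hO P inf_le_left hUP h4).1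

end Over


/-! ### The overgroup fact from the facts on the Weyl group -/

/-- the facts -/
structure OverIn (D : TData G) (A : Subgroup G) (yb sf nb : G) (q : ZMod 5 → G) : Prop where
  sf_mem : sf ∈ D.U ⊓ D.T
  nb_mem : nb ∈ D.T
  nbz : nb * D.z * nb⁻¹ = D.z
  na : ∃ na ∈ D.T, (∀ v ∈ D.V, na * v * na⁻¹ ∈ D.V) ∧ na * D.ya * na⁻¹ = D.yam
  ya_mem : D.ya ∈ D.U ⊓ D.T
  nya : nb * D.ya * nb⁻¹ ∈ D.U ⊓ D.T
  nzb : nb * D.zb * nb⁻¹ = D.zbm
  zbU : D.zbm ∉ D.U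
  yaU : D.yam ∉ D.U
  zb_ya : D.zb * (D.ya * D.zb * D.ya⁻¹) ≠ D.ya * D.zb * D.ya⁻¹ * D.zb
  q_sf : ∀ k, sf⁻¹ * q k * sf = q (2 * k)
  q_prod : q 0 * q 1 * q 2 * q 3 * q 4 = 1
  A_gen : A ≤ closure ({D.z} ∪ Set.range q)
  UA : ∀ u ∈ D.U, ∀ a ∈ A, u * a * u⁻¹ ∈ A
  A_le : A ≤ D.T
  cent_A : ∀ g ∈ D.T, (∀ a ∈ A, g * a = a * g) → g ∈ A
  norm_A : ∀ g ∈ D.H, (∀ a ∈ A, g * a * g⁻¹ ∈ A) → g * D.z * g⁻¹ = D.z
  z1_conj : ∀ u ∈ D.U, u * D.z1 * u⁻¹ = D.z1 ∨ u * D.z1 * u⁻¹ = D.z * D.z1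
  V_cases : ∀ v ∈ D.V, v = 1 ∨ v = D.z ∨ v = D.z1 ∨ v = D.z * D.z1
  UV : ∀ u ∈ D.U, ∀ v ∈ D.V, u * v * u⁻¹ ∈ D.V
  nV : nb * D.z1 * nb⁻¹ ∉ D.V
  bruhat : ∀ g ∈ D.H, ∃ u ∈ D.U, ∃ n ∈ D.T, ∃ v ∈ D.U, g = u * n * v ∧
    (n * D.z * n⁻¹ = D.z ∨ (∀ v ∈ D.V, n * v * n⁻¹ ∈ D.V) ∨ (n * D.z * n⁻¹ = D.z1 ∧ n * D.z1 * n⁻¹ = D.zb) ∨
      n * D.z * n⁻¹ = D.zb ∨ n * D.z * n⁻¹ = q 3 ∨ n * D.z * n⁻¹ = D.zbm ∨
      n * D.z * n⁻¹ * D.z ≠ D.z * (n * D.z * n⁻¹))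
  cz : ∀ a ∈ D.U, D.w0 * a * D.w0 * D.z * (D.w0 * a * D.w0)⁻¹ = D.z → ∃ k : ℤ, a = yb ^ k
  yb4 : yb ^ 4 = 1
  yb2 : yb * yb = D.zb
  cv : ∀ a ∈ D.U, (∀ v ∈ D.V, D.w0 * a * D.w0 * v * (D.w0 * a * D.w0)⁻¹ ∈ D.V) → a = 1 ∨ a = D.ya

theorem conj_comm_aux {u a b : G} (h : u * a * u⁻¹ * (u * b * u⁻¹) = u * b * u⁻¹ * (u * a * u⁻¹)) : a * b = b * a := by
  have h1 : u * (a * b) * u⁻¹ = u * (b * a) * u⁻¹ := by
    calc u * (a * b) * u⁻¹ = u * a * u⁻¹ * (u * b * u⁻¹) := by group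
      _ = u * b * u⁻¹ * (u * a * u⁻¹) := h
      _ = _ := by group
  exact mul_left_cancel (mul_right_cancel h1)

theorem union_aux {R P Q : Subgroup G} (h : ∀ g ∈ R, g ∈ P ∨ g ∈ Q) : R ≤ P ∨ R ≤ Q := by
  by_contra hcon
  rw [not_or] at hcon
  obtain ⟨a, ha, haP⟩ := SetLike.not_le_iff_exists.1 hcon.1
  obtain ⟨b, hb, hbQ⟩ := SetLike.not_le_iff_exists.1 hcon.2
  have haQ := (h a ha).resolve_left haP
  have hbP := (h b hb).resolve_right hbQ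
  rcases h (a * b) (R.mul_mem ha hb) with h1 | h1
  · exact haP ((P.mul_mem_cancel_right hbP).1 h1)
  · exact hbQ ((Q.mul_mem_cancel_left haQ).1 h1)

/-- `N = ⟨z^R⟩`, an abelian group normalised by `R` -/
theorem exists_N {z : G} {R : Subgroup G}
    (hc : ∀ x ∈ R, ∀ y ∈ R, x * z * x⁻¹ * (y * z * y⁻¹) = y * z * y⁻¹ * (x * z * x⁻¹)) :
    ∃ N : Subgroup G, (∀ a ∈ N, ∀ b ∈ N, a * b = b * a) ∧ (∀ g ∈ R, ∀ a ∈ N, g * a * g⁻¹ ∈ N) ∧ z ∈ N := by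
  refine ⟨closure {y | ∃ x ∈ R, y = x * z * x⁻¹}, ?_, ?_, subset_closure ⟨1, R.one_mem, by group⟩⟩
  · intro a ha b hb
    refine closure_induction₂ (p := fun a b _ _ => a * b = b * a) ?_ ?_ ?_ ?_ ?_ ?_ ?_ ha hb
    · rintro _ _ ⟨x, hx, rfl⟩ ⟨y, hy, rfl⟩
      exact hc x hx y hy
    · intro x _
      rw [one_mul, mul_one]
    · intro x _
      rw [one_mul, mul_one]
    · intro x y v _ _ _ h1 h2
      rw [mul_assoc, h2, ← mul_assoc, h1, mul_assoc]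
    · intro v x y _ _ _ h1 h2
      rw [← mul_assoc, h1, mul_assoc, h2, mul_assoc]
    · intro x y _ _ h1
      exact (Commute.inv_left (show Commute x y from h1)).eq
    · intro x y _ _ h1
      exact (Commute.inv_right (show Commute x y from h1)).eq
  · intro g hg a ha
    refine closure_induction (p := fun a _ => g * a * g⁻¹ ∈ closure {y | ∃ x ∈ R, y = x * z * x⁻¹}) ?_ ?_ ?_ ?_ ha
    · rintro _ ⟨x, hx, rfl⟩
      exact subset_closure ⟨g * x, R.mul_mem hg hx, by group⟩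
    · rw [mul_one, mul_inv_cancel]
      exact one_mem _
    · intro x y _ _ h1 h2
      have e : g * (x * y) * g⁻¹ = g * x * g⁻¹ * (g * y * g⁻¹) := by group
      rw [e]
      exact mul_mem h1 h2
    · intro x _ h1
      have e : g * x⁻¹ * g⁻¹ = (g * x * g⁻¹)⁻¹ := by group
      rw [e]
      exact inv_mem h1

namespace OverIn

variable {D : TData G} {A : Subgroup G} {yb sf nb : G} {q : ZMod 5 → G} (I : OverIn D A yb sf nb q)

include I

theorem ST_conj {u s : G} (hu : u ∈ D.U) (hs : s ∈ D.U ⊓ D.T) : u * s * u⁻¹ ∈ D.U ⊓ D.T :=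
  ⟨D.U.mul_mem (D.U.mul_mem hu hs.1) (D.U.inv_mem hu), D.T_conj u (D.U_le hu) s hs.2⟩

theorem over_mem {R : Subgroup G} (hR : R ≤ D.H) (hS : D.U ⊓ D.T ≤ R)
    (hc : ∀ x ∈ R, ∀ y ∈ R, x * D.z * x⁻¹ * (y * D.z * y⁻¹) = y * D.z * y⁻¹ * (x * D.z * x⁻¹)) {g : G} (hg : g ∈ R) :
    g * D.z * g⁻¹ = D.z ∨ ∀ v ∈ D.V, g * v * g⁻¹ ∈ D.V := by
  obtain ⟨N, hN, hn, hz⟩ := exists_N hc
  -- no conjugate of `zb`, `zbm`
  have no_zb : ∀ u ∈ D.U, u * D.zb * u⁻¹ ∉ N := by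
    intro u hu h
    have h1 := hn _ (hS (I.ST_conj hu I.ya_mem)) _ h
    have e : u * D.ya * u⁻¹ * (u * D.zb * u⁻¹) * (u * D.ya * u⁻¹)⁻¹ = u * (D.ya * D.zb * D.ya⁻¹) * u⁻¹ := by group
    rw [e] at h1
    exact I.zb_ya (conj_comm_aux (hN _ h _ h1))
  have no_zbm : ∀ u ∈ D.U, u * D.zbm * u⁻¹ ∉ N := by
    intro u hu h
    have h1 := hn _ (hS (I.ST_conj hu I.nya)) _ h
    rw [← I.nzb] at h h1
    have e : u * (nb * D.ya * nb⁻¹) * u⁻¹ * (u * (nb * D.zb * nb⁻¹) * u⁻¹) * (u * (nb * D.ya * nb⁻¹) * u⁻¹)⁻¹ =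
        u * (nb * (D.ya * D.zb * D.ya⁻¹) * nb⁻¹) * u⁻¹ := by group
    rw [e] at h1
    exact I.zb_ya (conj_comm_aux (conj_comm_aux (hN _ h _ h1)))
  have hgH := hR hg
  obtain ⟨u, hu, n, hnT, v, hv, rfl, hcas⟩ := I.bruhat g hgH
  have hconj : ∀ x, u * n * v * (v⁻¹ * x * (v⁻¹)⁻¹) * (u * n * v)⁻¹ = u * (n * x * n⁻¹) * u⁻¹ := fun x => by group
  have hzv : v⁻¹ * D.z * (v⁻¹)⁻¹ = D.z := D.z_central _ (inv_mem hv)
  have hgz : u * n * v * D.z * (u * n * v)⁻¹ = u * (n * D.z * n⁻¹) * u⁻¹ := by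
    conv_lhs => rw [← hzv]
    exact hconj _
  have hgN : u * (n * D.z * n⁻¹) * u⁻¹ ∈ N := hgz ▸ hn _ hg _ hz
  rcases hcas with h | h | ⟨h, h'⟩ | h | h | h | h
  · left
    rw [hgz, h]
    exact D.z_central u hu
  · right
    intro x hx
    have e : u * n * v * x * (u * n * v)⁻¹ = u * (n * (v * x * v⁻¹) * n⁻¹) * u⁻¹ := by group
    rw [e]
    exact I.UV u hu _ (h _ (I.UV v hv x hx))
  · exfalso
    rw [h] at hgN
    have hz1 : D.z1 ∈ N := by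
      rcases I.z1_conj u hu with h3 | h3
      · rwa [h3] at hgN
      · rw [h3] at hgN
        have h4 := mul_mem (inv_mem hz) hgN
        rwa [inv_mul_cancel_left] at h4
    have hV : ∀ x ∈ D.V, x ∈ N := by
      intro x hx
      rcases I.V_cases x hx with rfl | rfl | rfl | rfl
      · exact one_mem _
      · exact hz
      · exact hz1
      · exact mul_mem hz hz1
    have h6 := hn _ hg _ (hV _ (I.UV _ (inv_mem hv) _ D.z1_mem_V))
    rw [hconj, h'] at h6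
    exact no_zb u hu h6
  · rw [h] at hgN
    exact absurd hgN (no_zb u hu)
  · left
    rw [h] at hgN
    have step : ∀ k : ZMod 5, u * q k * u⁻¹ ∈ N → u * q (2 * k) * u⁻¹ ∈ N := by
      intro k hk
      have h4 := hn _ (hS (I.ST_conj hu (inv_mem I.sf_mem))) _ hk
      have e : u * sf⁻¹ * u⁻¹ * (u * q k * u⁻¹) * (u * sf⁻¹ * u⁻¹)⁻¹ = u * (sf⁻¹ * q k * sf) * u⁻¹ := by group
      rw [e, I.q_sf] at h4
      exact h4
    have h1 := step 3 hgN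
    have e1 : (2 * 3 : ZMod 5) = 1 := by decide
    rw [e1] at h1
    have h2 := step 1 h1
    have e2 : (2 * 1 : ZMod 5) = 2 := by decide
    rw [e2] at h2
    have h4 := step 2 h2
    have e4 : (2 * 2 : ZMod 5) = 4 := by decide
    rw [e4] at h4
    have h0 : u * q 0 * u⁻¹ ∈ N := by
      have e : q 0 = (q 1 * q 2 * q 3 * q 4)⁻¹ := by
        rw [eq_inv_iff_mul_eq_one]
        have := I.q_prod
        simpa only [mul_assoc] using this
      rw [e]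
      have e2 : u * (q 1 * q 2 * q 3 * q 4)⁻¹ * u⁻¹ =
        ((u * q 1 * u⁻¹) * (u * q 2 * u⁻¹) * (u * q 3 * u⁻¹) * (u * q 4 * u⁻¹))⁻¹ := by group
      rw [e2]
      exact inv_mem (mul_mem (mul_mem (mul_mem h1 h2) hgN) h4)
    have hq : ∀ k : ZMod 5, u * q k * u⁻¹ ∈ N := by
      intro k
      have : k = 0 ∨ k = 1 ∨ k = 2 ∨ k = 3 ∨ k = 4 := by revert k; decide
      rcases this with rfl | rfl | rfl | rfl | rfl
      · exact h0
      · exact h1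
      · exact h2
      · exact hgN
      · exact h4
    have hA : ∀ a ∈ A, a ∈ N := by
      have h3 : A ≤ cj u⁻¹ N := by
        refine I.A_gen.trans ((closure_le _).2 ?_)
        rintro x (hx | ⟨k, rfl⟩)
        · rw [Set.mem_singleton_iff.1 hx]
          show (u⁻¹)⁻¹ * D.z * u⁻¹ ∈ N
          rw [inv_inv, D.z_central u hu]
          exact hz
        · show (u⁻¹)⁻¹ * q k * u⁻¹ ∈ N
          rw [inv_inv]
          exact hq k
      intro a ha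
      have h4 := h3 (I.UA _ (inv_mem hu) a ha)
      rw [mem_cj] at h4
      have e : (u⁻¹)⁻¹ * (u⁻¹ * a * (u⁻¹)⁻¹) * u⁻¹ = a := by group
      rw [e] at h4
      exact h4
    refine I.norm_A _ hgH fun a ha => ?_
    exact I.cent_A _ (D.T_conj _ hgH _ (I.A_le ha)) fun b hb => hN _ (hn _ hg a (hA a ha)) _ (hA b hb)
  · rw [h] at hgN
    exact absurd hgN (no_zbm u hu)
  · exfalso
    apply h
    have h9 := hN _ hgN _ hz
    have e : u * D.z * u⁻¹ = D.z := D.z_central u hu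
    rw [← e] at h9
    have h10 := conj_comm_aux h9
    rwa [e] at h10

/-- **The overgroup facts.** -/
theorem mk_over [Finite G] : Over D where
  ovg := by
    intro R hR hS hc
    have h : ∀ g ∈ R, g ∈ centralizer {D.z} ∨ g ∈ normalizer (D.V : Set G) := by
      intro g hg
      rcases I.over_mem hR hS hc hg with h1 | h1
      · left
        rw [mem_centralizer_singleton_iff, ← mul_inv_eq_iff_eq_mul]
        exact h1
      · exact Or.inr (Over.mem_normalizer_of_le h1)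
    rcases union_aux h with h1 | h1
    · left
      intro g hg
      have h2 := h1 hg
      rw [mem_centralizer_singleton_iff, ← mul_inv_eq_iff_eq_mul] at h2
      exact h2
    · exact Or.inr fun g hg v hv => (mem_normalizer_iff.1 (h1 hg) v).1 hv
  oz := by
    intro a ha h
    obtain ⟨k, rfl⟩ := I.cz a ha h
    by_cases ha1 : yb ^ k = 1
    · exact Or.inl ha1
    right
    refine ⟨nb, I.nb_mem, I.nbz, ?_⟩
    have h4 : yb ^ (4 : ℤ) = 1 := by exact_mod_cast I.yb4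
    have h5 : yb ^ k = yb ^ (k % 4) := by
      conv_lhs => rw [← Int.emod_add_mul_ediv k 4]
      rw [zpow_add, zpow_mul, h4, one_zpow, mul_one]
    have h6 : k % 4 = 0 ∨ k % 4 = 1 ∨ k % 4 = 2 ∨ k % 4 = 3 := by omega
    have hz2 : ∃ j : ℕ, (yb ^ k) ^ j = D.zb := by
      rw [h5] at ha1 ⊢
      rcases h6 with h6 | h6 | h6 | h6 <;> rw [h6] at ha1 ⊢
      · exact absurd (zpow_zero _) ha1
      · refine ⟨2, ?_⟩
        rw [zpow_one, pow_two, I.yb2]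
      · refine ⟨1, ?_⟩
        rw [pow_one, ← I.yb2]
        exact zpow_two _
      · refine ⟨2, ?_⟩
        have e : (yb ^ (3 : ℤ)) ^ 2 = yb ^ (4 : ℤ) * (yb * yb) := by group
        rw [e, h4, one_mul, I.yb2]
    obtain ⟨j, hj⟩ := hz2
    refine ⟨j, ?_⟩
    rw [hj, I.nzb]
    exact I.zbU
  ov := by
    intro a ha h
    rcases I.cv a ha h with h1 | rfl
    · exact Or.inl h1
    · right
      obtain ⟨na, h2, h3, h4⟩ := I.na
      refine ⟨na, h2, h3, ?_⟩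
      rw [h4]
      exact I.yaU
  nv := ⟨nb, I.nb_mem, D.z1, D.z1_mem_V, I.nV⟩
  UV := I.UV

end OverIn

end Cfsg.Agent.TitsK

end

-- merged: Cfsg.Agent.TitsK.OverK
section

/-!
# The overgroup facts for the Tits group in `²F₄(2)` (helper625)

* `bruhatW`: the double cosets `UT n UT` with the conjugate of `z` by `n`;
* `overIn : OverIn tdata AA yb sf nb qf`, `overD : Over tdata`.
-/

set_option autoImplicit false
set_option Elab.async false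

namespace Cfsg.Agent.TitsK

open Cfsg.Lie Cfsg.Agent.ChevalleyStructure.TwF4.Tables
open Cfsg.Agent.FourTwo.Base hiding bar bar_lt
open Cfsg.Agent.FourTwo.BN Cfsg.Agent.FourTwo.Comm Cfsg.Agent.FourTwo.Classes
open Cfsg.Agent.FourTwo.UCode (mulU invU conjU lets colW colF force force_eq mem_lets wel_lets wel_mem)
open Cfsg.Agent.TitsK.Abs

/-- the type of a word, `z ↦ z`, `z1`, `ec 266240`, `zb`, `zbm`, other negative -/
def oW (w : List ℕ) : Bool :=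
  w == [] || w == [1, 2, 1, 2] || w == [0, 3] || w == [0, 3, 1, 2, 1, 2] ||
  (posW w 9437184 && Nat.beq (reflW w 9437184) 80) ||
  (posW w 9437184 && Nat.beq (reflW w 9437184) 266240) ||
  (posW (alt true 8 ++ w) 9437184 && Nat.beq (reflW (alt true 8 ++ w) 9437184) 80) ||
  (posW (alt true 8 ++ w) 9437184 && Nat.blt (reflW (alt true 8 ++ w) 9437184) 16777216 &&
    !Nat.beq (reflW (alt true 8 ++ w) 9437184) 80 && !Nat.beq (reflW (alt true 8 ++ w) 9437184) 0)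

theorem oW_all : (W16.all oW) = true := by decide +kernel

theorem oW_spec {w : List ℕ} (hw : w ∈ W16) : w = [] ∨ w = [1, 2, 1, 2] ∨ w = [0, 3] ∨ w = [0, 3, 1, 2, 1, 2] ∨
    (posW w 9437184 = true ∧ reflW w 9437184 = 80) ∨ (posW w 9437184 = true ∧ reflW w 9437184 = 266240) ∨
    (posW (alt true 8 ++ w) 9437184 = true ∧ reflW (alt true 8 ++ w) 9437184 = 80) ∨
    (posW (alt true 8 ++ w) 9437184 = true ∧ reflW (alt true 8 ++ w) 9437184 < 2 ^ 24 ∧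
      reflW (alt true 8 ++ w) 9437184 ≠ 80 ∧ reflW (alt true 8 ++ w) 9437184 ≠ 0) := by
  have hW := oW_all
  rw [List.all_eq_true] at hW
  have h1 := hW w hw
  unfold oW at h1
  simp only [Bool.or_eq_true, Bool.and_eq_true, beq_iff_eq, Nat.beq_eq, Bool.not_eq_true', Nat.blt_eq] at h1
  rcases h1 with ((((((h1 | h1) | h1) | h1) | h1) | h1) | h1) | h1
  · exact Or.inl h1
  · exact Or.inr (Or.inl h1)
  · exact Or.inr (Or.inr (Or.inl h1))
  · exact Or.inr (Or.inr (Or.inr (Or.inl h1)))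
  · exact Or.inr (Or.inr (Or.inr (Or.inr (Or.inl h1))))
  · exact Or.inr (Or.inr (Or.inr (Or.inr (Or.inr (Or.inl h1)))))
  · exact Or.inr (Or.inr (Or.inr (Or.inr (Or.inr (Or.inr (Or.inl h1))))))
  · obtain ⟨⟨⟨h2, h3⟩, h4⟩, h5⟩ := h1
    refine Or.inr (Or.inr (Or.inr (Or.inr (Or.inr (Or.inr (Or.inr ⟨h2, h3, ?_, ?_⟩))))))
    · intro h
      rw [h] at h4
      exact absurd h4 (by decide)
    · intro h
      rw [h] at h5
      exact absurd h5 (by decide)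


theorem hl_aux {w : List ℕ} (hw : w ∈ W16) : ∀ i ∈ alt true 8 ++ w, i < 4 := by
  intro i hi
  rw [List.mem_append] at hi
  rcases hi with hi | hi
  · exact lt_of_mem_W16 (w := alt true 8) (by decide) i hi
  · exact lt_of_mem_W16 hw i hi

theorem w0_aux {G : Type*} [Group G] {w n c p : G} (hi : w⁻¹ = w)
    (h : w * n * c * (w * n)⁻¹ = p) : w * (n * c * n⁻¹) * w = p := by
  rw [← h]
  have e : w * n * c * (w * n)⁻¹ = w * (n * c * n⁻¹) * w⁻¹ := by group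
  rw [e, hi]

theorem w0_aux2 {G : Type*} [Group G] {w x y : G} (h : w * x * w = w * y * w) : x = y :=
  mul_left_cancel (mul_right_cancel h)

theorem w0_nw {w : List ℕ} (hw : w ∈ W16) (h : posW (alt true 8 ++ w) 9437184 = true) :
    w0 * (nw w * z * (nw w)⁻¹) * w0 = ec (reflW (alt true 8 ++ w) 9437184) := by
  have h2 := nw_conj_ec (hl_aux hw) h
  rw [nw_append, ← w0_eq] at h2
  exact w0_aux (G := LL) (w := w0) w0_inv h2

theorem nw_zbm {w : List ℕ} (hw : w ∈ W16) (h : posW (alt true 8 ++ w) 9437184 = true)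
    (h' : reflW (alt true 8 ++ w) 9437184 = 80) : nw w * z * (nw w)⁻¹ = zbm := by
  have h2 := w0_nw hw h
  rw [h', ← zb_eq, ← w0_conj_zbm] at h2
  exact w0_aux2 (G := LL) (w := w0) h2

theorem nw_z_mem_TT {w : List ℕ} (hw : w ∈ W16) : nw w * z * (nw w)⁻¹ ∈ TT :=
  TT.mul_mem (TT.mul_mem (nw_mem_TT hw) z_mem_TT) (TT.inv_mem (nw_mem_TT hw))

theorem comm_aux {G : Type*} [Group G] {p z : G} (h : p * z = z * p) : p * z * p⁻¹ = z := by
  rw [h]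
  group

theorem nw_ncomm {w : List ℕ} (hw : w ∈ W16) (h : posW (alt true 8 ++ w) 9437184 = true)
    (h3 : reflW (alt true 8 ++ w) 9437184 < 2 ^ 24) (h4 : reflW (alt true 8 ++ w) 9437184 ≠ 80)
    (h5 : reflW (alt true 8 ++ w) 9437184 ≠ 0) : nw w * z * (nw w)⁻¹ * z ≠ z * (nw w * z * (nw w)⁻¹) := by
  intro hc
  have h7 := w0_nw hw h
  have hpV : nw w * z * (nw w)⁻¹ ∈ VT := by
    rw [mem_VT, h7]
    refine ⟨ec_mem_U _, ?_⟩
    rw [← h7]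
    exact HT.mul_mem (HT.mul_mem w0_mem_HT (TT_le (nw_z_mem_TT hw))) w0_mem_HT
  rcases VT_TT_cent_z hpV (nw_z_mem_TT hw) (comm_aux (G := LL) (p := nw w * z * (nw w)⁻¹) hc) with h9 | h9
  · rw [h9, mul_one, w0_mul_self, ← ec_zero] at h7
    exact h5 (ec_inj (by norm_num) h3 h7).symm
  · rw [h9, w0_conj_zbm, zb_eq] at h7
    exact h4 (ec_inj (by norm_num) h3 h7).symm


/-! ### the fields -/

theorem ya_mem_QQ : ya ∈ QQ := by rw [ya_eq]; exact gQ_mem (513, false) (by decide)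
theorem ya_mem_ST : ya ∈ UT ⊓ TT := ⟨QQ_le_UT ya_mem_QQ, QQ_le_TT ya_mem_QQ⟩

theorem zb_ya_code : mulU 80 (conjU 513 80) ≠ mulU (conjU 513 80) 80 ∧ mulU 80 (conjU 513 80) < 2 ^ 24 ∧
    mulU (conjU 513 80) 80 < 2 ^ 24 := by
  have h : (!Nat.beq (mulU 80 (conjU 513 80)) (mulU (conjU 513 80) 80) && Nat.blt (mulU 80 (conjU 513 80)) 16777216 &&
    Nat.blt (mulU (conjU 513 80) 80) 16777216) = true := by decide +kernel
  rw [Bool.and_eq_true, Bool.and_eq_true, Nat.blt_eq, Nat.blt_eq, Bool.not_eq_true'] at h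
  refine ⟨fun h1 => ?_, h.1.2, h.2⟩
  have h2 := h.1.1
  rw [h1, Nat.beq_refl] at h2
  exact absurd h2 (by decide)

/-- `zb` and its conjugate by `ya` do not commute -/
theorem zb_ya : zb * (ya * zb * ya⁻¹) ≠ ya * zb * ya⁻¹ * zb := by
  intro h1
  rw [zb_eq, ya_eq, ← ec_conjU, ← ec_mulU, ← ec_mulU] at h1
  obtain ⟨h2, h3, h4⟩ := zb_ya_code
  exact h2 (ec_inj h3 h4 h1)

theorem nya_mem : nb * ya * nb⁻¹ ∈ UT ⊓ TT :=
  ⟨(nb_conj_Q8 (QQ_le_Q8 ya_mem_QQ)).1, TT.mul_mem (TT.mul_mem nb_mem_TT ya_mem_ST.2) (TT.inv_mem nb_mem_TT)⟩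

theorem zbm_mem_VT : zbm ∈ VT := by
  rw [mem_VT, w0_conj_zbm, zb_eq]
  exact ⟨ec_mem_U _, by rw [← zb_eq]; exact TT_le zb_mem_TT⟩

theorem zbm_not_mem_UT : zbm ∉ UT := fun h => zbm_ne (UT_inf_VT h zbm_mem_VT)

theorem yam_not_mem_UT : yam ∉ UT := fun h => yam_ne (UT_inf_VT h yam_mem_VT)

theorem cent_AA' {g : LL} (hg : g ∈ TT) (h : ∀ a ∈ AA, g * a = a * g) : g ∈ AA := by
  rcases cent_AA (TT_le hg) h with h6 | h6
  · exact h6
  · exfalso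
    have h7 := AA_le_TT h6
    rw [TT_mul_iff (UT_le_HT jf_mem) (TT_le hg)] at h7
    exact jf_not_mem (h7.2 hg)

theorem nb_z1_not_mem : nb * z1 * nb⁻¹ ∉ V4 := by
  rw [nb_conj_z1]
  intro h
  obtain ⟨e, he, h1⟩ := mem_V4.1 h
  have h3 : ∀ e ∈ L4, e < 2 ^ 24 ∧ 266240 ≠ e := by decide
  exact (h3 e he).2 (ec_inj (by norm_num) (h3 e he).1 h1)

theorem w0_w0_aux {G : Type*} [Group G] {w a : G} (h : w * w = 1) : w * (w * a * w) * w = a := by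
  have e : w * (w * a * w) * w = (w * w) * a * (w * w) := by group
  rw [e, h, one_mul, mul_one]

theorem w0_mem_VT {a : LL} (ha : a ∈ UT) : w0 * a * w0 ∈ VT := by
  have e := w0_w0_aux (G := LL) (w := w0) (a := a) w0_mul_self
  rw [mem_VT, e]
  exact ha

theorem cz_aux {a : LL} (ha : a ∈ UT) (h : w0 * a * w0 * z * (w0 * a * w0)⁻¹ = z) : ∃ k : ℤ, a = yb ^ k := by
  obtain ⟨k, hk⟩ := Subgroup.mem_zpowers_iff.1 (VT_cent_z (w0_mem_VT ha) h)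
  refine ⟨k, ?_⟩
  have e := w0_w0_aux (G := LL) (w := w0) (a := a) w0_mul_self
  rw [← hk] at e
  have e1 : w0 * ybm * w0⁻¹ = yb := by rw [w0_inv]; exact w0_conj_ybm
  rw [← e, ← e1, conj_zpow, w0_inv]

theorem cv_aux {a : LL} (ha : a ∈ UT) (h : ∀ v ∈ V4, w0 * a * w0 * v * (w0 * a * w0)⁻¹ ∈ V4) : a = 1 ∨ a = ya := by
  rcases VT_norm_V4 (w0_mem_VT ha) h with h2 | h2
  · left
    have e := w0_w0_aux (G := LL) (w := w0) (a := a) w0_mul_self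
    rw [h2, mul_one, w0_mul_self] at e
    exact e.symm
  · right
    have e := w0_w0_aux (G := LL) (w := w0) (a := a) w0_mul_self
    rw [h2, w0_conj_yam] at e
    exact e.symm

theorem nanb_z : nw [0, 3, 1, 2, 1, 2] * z * (nw [0, 3, 1, 2, 1, 2])⁻¹ = z1 := by
  have h := nw_conj_ec (w := [0, 3, 1, 2, 1, 2]) (e := 9437184) (by decide) (by decide +kernel)
  have e : reflW [0, 3, 1, 2, 1, 2] 9437184 = 4259840 := by decide +kernel
  rw [e] at h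
  exact h

theorem nanb_z1 : nw [0, 3, 1, 2, 1, 2] * z1 * (nw [0, 3, 1, 2, 1, 2])⁻¹ = zb := by
  have h := nw_conj_ec (w := [0, 3, 1, 2, 1, 2]) (e := 4259840) (by decide) (by decide +kernel)
  have e : reflW [0, 3, 1, 2, 1, 2] 4259840 = 80 := by decide +kernel
  rw [e, ← zb_eq] at h
  exact h

theorem bruhatW {g : LL} (hg : g ∈ HT) : ∃ u ∈ UT, ∃ n ∈ TT, ∃ v ∈ UT, g = u * n * v ∧
    (n * z * n⁻¹ = z ∨ (∀ v ∈ V4, n * v * n⁻¹ ∈ V4) ∨ (n * z * n⁻¹ = z1 ∧ n * z1 * n⁻¹ = zb) ∨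
      n * z * n⁻¹ = zb ∨ n * z * n⁻¹ = qf 3 ∨ n * z * n⁻¹ = zbm ∨ n * z * n⁻¹ * z ≠ z * (n * z * n⁻¹)) := by
  obtain ⟨u, hu, w, hw, v, hv, h⟩ := bruhat_HT hg
  refine ⟨u, hu, nw w, nw_mem_TT hw, v, hv, h, ?_⟩
  rcases oW_spec hw with h1 | h1 | h1 | h1 | h1 | h1 | h1 | h1
  · left
    rw [h1]
    show 1 * z * 1⁻¹ = z
    rw [one_mul, inv_one, mul_one]
  · left
    rw [h1]
    exact nb_conj_z
  · right; left
    rw [h1]
    exact fun x hx => na_conj_V4 hx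
  · right; right; left
    rw [h1]
    exact ⟨nanb_z, nanb_z1⟩
  · right; right; right; left
    have h2 := nw_conj_ec (lt_of_mem_W16 hw) h1.1
    rw [h1.2, ← zb_eq] at h2
    exact h2
  · right; right; right; right; left
    have h2 := nw_conj_ec (lt_of_mem_W16 hw) h1.1
    rw [h1.2] at h2
    exact h2
  · right; right; right; right; right; left
    exact nw_zbm hw h1.1 h1.2
  · right; right; right; right; right; right
    exact nw_ncomm hw h1.1 h1.2.1 h1.2.2.1 h1.2.2.2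

theorem overIn : OverIn tdata AA yb sf nb qf where
  sf_mem := ⟨sf_mem, sf_mem_TT⟩
  nb_mem := nb_mem_TT
  nbz := nb_conj_z
  na := ⟨na, na_mem_TT, fun _ hv => na_conj_V4 hv, na_conj_ya⟩
  ya_mem := ya_mem_ST
  nya := nya_mem
  nzb := nb_conj_zb
  zbU := zbm_not_mem_UT
  yaU := yam_not_mem_UT
  zb_ya := zb_ya
  q_sf := qf_conj_sf
  q_prod := qf_prod
  A_gen := AA_gen
  UA := fun _ hu _ ha => UT_conj_AA hu ha
  A_le := AA_le_TT
  cent_A := fun _ hg h => cent_AA' hg h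
  norm_A := fun _ hg h => (mem_Pz.1 (norm_AA hg h)).2
  z1_conj := fun _ hu => conj_z1 hu
  V_cases := fun _ hv => mem_V4_iff.1 hv
  UV := fun _ hu _ hv => UT_conj_V4 hu hv
  nV := nb_z1_not_mem
  bruhat := fun _ hg => bruhatW hg
  cz := fun _ ha h => cz_aux ha h
  yb4 := yb_pow4
  yb2 := yb_sq
  cv := fun _ ha h => cv_aux ha h

theorem overD : Over tdata := OverIn.mk_over overIn

end Cfsg.Agent.TitsK

end
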